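import Mathlib
import Groth.Agent.Lib.Helper47.GrStratCore

/-!
# Base change of the truncations `M / JᵏM` (helper16)
-/

set_option autoImplicit false
universe u
open TensorProduct

namespace Groth.Agent.Lib.Helper16.GrFlat

open Groth.Agent.Lib.Helper47.GrStrat

section

variable {P : Type u} [CommRing P] (J : Ideal P) {M M' : Type u} [AddCommGroup M] [Module P M]
  [AddCommGroup M'] [Module P M']

/-- Truncations of isomorphic modules are isomorphic. -/
noncomputable def truncCongr (e : M ≃ₗ[P] M') (k : ℕ) : Trunc J M k ≃ₗ[P] Trunc J M' k :=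
  Submodule.Quotient.equiv _ _ e (by
    rw [Submodule.map_smul'', Submodule.map_top, LinearEquiv.range])

end

section

variable {P₁ P₂ : Type u} [CommRing P₁] [CommRing P₂] [Algebra P₁ P₂] (J₁ : Ideal P₁)
  (M₁ : Type u) [AddCommGroup M₁] [Module P₁ M₁]

/-- Base change of a truncation. -/
noncomputable def truncBaseChange (k : ℕ) :
    P₂ ⊗[P₁] Trunc J₁ M₁ k ≃ₗ[P₂] Trunc (J₁.map (algebraMap P₁ P₂)) (P₂ ⊗[P₁] M₁) k :=
  (TensorProduct.tensorQuotMapSMulEquivTensorQuot M₁ P₂ (J₁ ^ k)).symm ≪≫ₗ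
    Submodule.quotEquivOfEq _ _ (by rw [Ideal.map_pow])

end

section Poly

attribute [local instance] MvPolynomial.algebraMvPolynomial

variable {A T : Type u} [CommRing A] [CommRing T] [Algebra A T] {n : ℕ}
  (J₁ : Ideal (MvPolynomial (Fin n) A)) (M₁ : Type u) [AddCommGroup M₁]
  [Module (MvPolynomial (Fin n) A) M₁] [Module A M₁] [IsScalarTower A (MvPolynomial (Fin n) A) M₁]

/-- Base change of a truncation over a polynomial ring along a change of coefficients. -/
noncomputable def truncBaseChangePoly (k : ℕ) :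
    T ⊗[A] Trunc J₁ M₁ k ≃ₗ[T]
      Trunc (J₁.map (algebraMap (MvPolynomial (Fin n) A) (MvPolynomial (Fin n) T)))
        (MvPolynomial (Fin n) T ⊗[MvPolynomial (Fin n) A] M₁) k :=
  (Algebra.IsPushout.cancelBaseChange A T (MvPolynomial (Fin n) A) (MvPolynomial (Fin n) T)
      (Trunc J₁ M₁ k)).symm ≪≫ₗ
    (truncBaseChange (P₂ := MvPolynomial (Fin n) T) J₁ M₁ k).restrictScalars T

end Poly

end Groth.Agent.Lib.Helper16.GrFlat
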