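import Mathlib

/-!
# Flattening ideals for nilpotent thickenings (helper16)

`Λ` a commutative ring, `𝔫` a nilpotent ideal, `Y` a `Λ`-module whose reduction
`(Λ ⧸ 𝔫) ⊗ Y` is projective over `Λ ⧸ 𝔫`.  Then there is an ideal `I` of `Λ` such that for every
`Λ`-algebra `T`, the module `T ⊗ Y` is flat over `T` if and only if `I T = 0`
(`exists_flattening_ideal`).

The proof lifts the idempotent cutting out the reduction inside a free module to get a projective
`Λ`-module `P` with a surjection `p : P → Y` whose kernel lies in `𝔫 P`; the ideal `I` is the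
content of `ker p` with respect to a dual basis of `P`.
-/

set_option autoImplicit false
universe u
open TensorProduct

namespace Groth.Agent.Lib.Helper16.GrFlat

section Nil

variable {A : Type*} [CommRing A] {N : Type*} [AddCommGroup N] [Module A N]

/-- A submodule contained in `𝔞 K` for a nilpotent ideal `𝔞` is zero. -/
theorem eq_bot_of_le_smul_of_isNilpotent (𝔞 : Ideal A) (h𝔞 : IsNilpotent 𝔞)
    (K : Submodule A N) (h : K ≤ 𝔞 • K) : K = ⊥ := by
  obtain ⟨n, hn⟩ := h𝔞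
  have key : ∀ m : ℕ, K ≤ 𝔞 ^ m • K := by
    intro m
    induction m with
    | zero => simp
    | succ m ih =>
      calc K ≤ 𝔞 • K := h
        _ ≤ 𝔞 • (𝔞 ^ m • K) := Submodule.smul_mono le_rfl ih
        _ = 𝔞 ^ (m + 1) • K := by rw [← Submodule.mul_smul, ← pow_succ']
  have := key n
  rw [hn, Ideal.zero_eq_bot, Submodule.bot_smul] at this
  exact eq_bot_iff.mpr this

/-- Nilpotent Nakayama: `P + 𝔞 N = N` with `𝔞` nilpotent forces `P = N`. -/
theorem eq_top_of_sup_smul_of_isNilpotent (𝔞 : Ideal A) (h𝔞 : IsNilpotent 𝔞)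
    (P : Submodule A N) (h : ⊤ ≤ P ⊔ 𝔞 • (⊤ : Submodule A N)) : P = ⊤ := by
  obtain ⟨n, hn⟩ := h𝔞
  have key : ∀ m : ℕ, (⊤ : Submodule A N) ≤ P ⊔ 𝔞 ^ m • (⊤ : Submodule A N) := by
    intro m
    induction m with
    | zero => simp
    | succ m ih =>
      calc (⊤ : Submodule A N) ≤ P ⊔ 𝔞 • (⊤ : Submodule A N) := h
        _ ≤ P ⊔ 𝔞 • (P ⊔ 𝔞 ^ m • (⊤ : Submodule A N)) :=
          sup_le_sup_left (Submodule.smul_mono le_rfl ih) _
        _ = P ⊔ (𝔞 • P ⊔ 𝔞 • (𝔞 ^ m • (⊤ : Submodule A N))) := by rw [Submodule.smul_sup]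
        _ ≤ P ⊔ 𝔞 ^ (m + 1) • (⊤ : Submodule A N) := by
          rw [← Submodule.mul_smul, ← pow_succ']
          refine sup_le le_sup_left (sup_le ?_ le_sup_right)
          exact le_sup_of_le_left Submodule.smul_le_right
  have := key n
  rw [hn, Ideal.zero_eq_bot, Submodule.bot_smul, sup_bot_eq] at this
  exact eq_top_iff.mpr this

/-- For a surjection `π : F → N` onto a flat module: `ker π ∩ 𝔞 F = 𝔞 ker π`. -/
theorem mem_smul_ker_of_flat {F : Type*} [AddCommGroup F] [Module A F] [Module.Flat A N]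
    (π : F →ₗ[A] N) (hπ : Function.Surjective π)
    (𝔞 : Ideal A) (x : F) (hx : x ∈ 𝔞 • (⊤ : Submodule A F)) (hπx : π x = 0) :
    x ∈ 𝔞 • LinearMap.ker π := by
  -- `(A ⧸ 𝔞) ⊗ ker π → (A ⧸ 𝔞) ⊗ F` is injective as `N` is flat
  have hex : Function.Exact (LinearMap.ker π).subtype π := LinearMap.exact_subtype_ker_map π
  have hinj : Function.Injective ((LinearMap.ker π).subtype.lTensor (A ⧸ 𝔞)) :=
    LinearMap.lTensor_injective_of_exact_of_flat π hπ (LinearMap.ker π).subtype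
      (Submodule.injective_subtype _) hex (A ⧸ 𝔞)
  have h0 : (LinearMap.ker π).subtype.lTensor (A ⧸ 𝔞) ((1 : A ⧸ 𝔞) ⊗ₜ[A] ⟨x, hπx⟩) = 0 := by
    rw [LinearMap.lTensor_tmul, Submodule.subtype_apply]
    apply (TensorProduct.quotTensorEquivQuotSMul F 𝔞).injective
    rw [TensorProduct.quotTensorEquivQuotSMul_mk_one_tmul, map_zero,
      Submodule.Quotient.mk_eq_zero]
    exact hx
  have h1 : ((1 : A ⧸ 𝔞) ⊗ₜ[A] (⟨x, hπx⟩ : LinearMap.ker π)) = 0 :=
    hinj (by rw [h0, map_zero])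
  have h2 := congrArg (TensorProduct.quotTensorEquivQuotSMul (LinearMap.ker π) 𝔞) h1
  rw [TensorProduct.quotTensorEquivQuotSMul_mk_one_tmul, map_zero,
    Submodule.Quotient.mk_eq_zero] at h2
  -- transport along the subtype
  have h3 : (LinearMap.ker π).subtype ⟨x, hπx⟩ ∈
      Submodule.map (LinearMap.ker π).subtype (𝔞 • (⊤ : Submodule A (LinearMap.ker π))) :=
    Submodule.mem_map_of_mem h2
  rw [Submodule.map_smul'', Submodule.map_top, Submodule.range_subtype] at h3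
  exact h3

end Nil

section StepB

variable {Λ : Type u} [CommRing Λ] (𝔫 : Ideal Λ)
  {P : Type u} [AddCommGroup P] [Module Λ P]
  {Y : Type u} [AddCommGroup Y] [Module Λ Y]

/-- Tensors `t ⊗ x` with `x ∈ 𝔫 P` lie in `(𝔫 T)(T ⊗ P)`. -/
theorem tmul_mem_map_smul_top (T : Type u) [CommRing T] [Algebra Λ T] (t : T) (x : P)
    (hx : x ∈ 𝔫 • (⊤ : Submodule Λ P)) :
    t ⊗ₜ[Λ] x ∈ (𝔫.map (algebraMap Λ T)) • (⊤ : Submodule T (T ⊗[Λ] P)) := by
  refine Submodule.smul_induction_on hx ?_ ?_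
  · intro a ha y _
    have : t ⊗ₜ[Λ] (a • y) = (algebraMap Λ T a) • (t ⊗ₜ[Λ] y) := by
      rw [TensorProduct.tmul_smul, TensorProduct.smul_tmul', TensorProduct.smul_tmul',
        Algebra.smul_def, smul_eq_mul]
    rw [this]
    exact Submodule.smul_mem_smul (Ideal.mem_map_of_mem _ ha) Submodule.mem_top
  · intro a b ha hb
    rw [TensorProduct.tmul_add]
    exact Submodule.add_mem _ ha hb

/-- **Step B**: flattening ideal from a projective cover which is an isomorphism modulo a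
nilpotent ideal. -/
theorem exists_flattening_ideal_of_cover [Module.Projective Λ P] (h𝔫 : IsNilpotent 𝔫)
    (p : P →ₗ[Λ] Y)
    (hp : Function.Surjective p) (hker : LinearMap.ker p ≤ 𝔫 • (⊤ : Submodule Λ P)) :
    ∃ I : Ideal Λ, ∀ (T : Type u) [CommRing T] [Algebra Λ T],
      Module.Flat T (T ⊗[Λ] Y) ↔ I.map (algebraMap Λ T) = ⊥ := by
  classical
  obtain ⟨s, hs⟩ := (Module.projective_def'.mp (inferInstance : Module.Projective Λ P))
  -- `hs : Finsupp.linearCombination Λ id ∘ₗ s = LinearMap.id`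
  refine ⟨Ideal.span {c : Λ | ∃ q ∈ LinearMap.ker p, ∃ x : P, c = (s q) x}, ?_⟩
  intro T _ _
  set pT : T ⊗[Λ] P →ₗ[T] T ⊗[Λ] Y := p.baseChange T with hpT
  have hpTsurj : Function.Surjective pT := by
    rw [hpT, LinearMap.baseChange_eq_ltensor]
    exact LinearMap.lTensor_surjective T hp
  -- kernel of `pT` is generated by the `t ⊗ q`
  have hkerT : ∀ z : T ⊗[Λ] P, pT z = 0 →
      z ∈ LinearMap.range ((LinearMap.ker p).subtype.lTensor T) := by
    intro z hz
    have hex : Function.Exact ((LinearMap.ker p).subtype.lTensor T) (p.lTensor T) :=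
      lTensor_exact T (LinearMap.exact_subtype_ker_map p) hp
    have hz' : p.lTensor T z = 0 := by
      have := hz
      rw [hpT, LinearMap.baseChange_eq_ltensor] at this
      exact this
    exact (hex z).mp hz'
  constructor
  · -- flat ⇒ `I T = 0`
    intro hflat
    -- the kernel is contained in `𝔫 T (T ⊗ P)`
    have hle : LinearMap.ker pT ≤ (𝔫.map (algebraMap Λ T)) • (⊤ : Submodule T (T ⊗[Λ] P)) := by
      intro z hz
      obtain ⟨w, rfl⟩ := hkerT z hz
      clear hz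
      induction w with
      | zero => rw [map_zero]; exact Submodule.zero_mem _
      | tmul t q =>
        rw [LinearMap.lTensor_tmul, Submodule.subtype_apply]
        exact tmul_mem_map_smul_top 𝔫 T t q.1 (hker q.2)
      | add a b ha hb => rw [map_add]; exact Submodule.add_mem _ ha hb
    have hle2 : LinearMap.ker pT ≤ (𝔫.map (algebraMap Λ T)) • LinearMap.ker pT := by
      intro z hz
      exact mem_smul_ker_of_flat pT hpTsurj _ z (hle hz) hz
    have hnilT : IsNilpotent (𝔫.map (algebraMap Λ T)) := by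
      obtain ⟨n, hn⟩ := h𝔫
      refine ⟨n, ?_⟩
      rw [← Ideal.map_pow, hn, Ideal.zero_eq_bot, Ideal.map_bot]
      rfl
    have hbot : LinearMap.ker pT = ⊥ := eq_bot_of_le_smul_of_isNilpotent _ hnilT _ hle2
    rw [Ideal.map_span, Ideal.span_eq_bot]
    rintro _ ⟨c, ⟨q, hq, x, rfl⟩, rfl⟩
    -- `1 ⊗ q = 0` in `T ⊗ P`
    have h1 : (1 : T) ⊗ₜ[Λ] q ∈ LinearMap.ker pT := by
      rw [LinearMap.mem_ker, hpT, LinearMap.baseChange_tmul, hq, TensorProduct.tmul_zero]
    rw [hbot, Submodule.mem_bot] at h1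
    -- apply the coordinate functional
    let φ : P →ₗ[Λ] Λ := (Finsupp.lapply x) ∘ₗ s
    have h2 := congrArg (φ.baseChange T) h1
    rw [LinearMap.baseChange_tmul, map_zero] at h2
    have h3 := congrArg (TensorProduct.rid Λ T) h2
    rw [TensorProduct.rid_tmul, map_zero] at h3
    have h4 : φ q = (s q) x := rfl
    rw [h4, Algebra.smul_def, mul_one] at h3
    exact h3
  · -- `I T = 0` ⇒ flat
    intro hI
    have hzero : ∀ q ∈ LinearMap.ker p, ∀ x : P, algebraMap Λ T ((s q) x) = 0 := by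
      intro q hq x
      have hmem : algebraMap Λ T ((s q) x) ∈
          (Ideal.span {c : Λ | ∃ q ∈ LinearMap.ker p, ∃ x : P, c = (s q) x}).map
            (algebraMap Λ T) :=
        Ideal.mem_map_of_mem _ (Ideal.subset_span ⟨q, hq, x, rfl⟩)
      rw [hI] at hmem
      exact hmem
    -- `1 ⊗ q = 0` in `T ⊗ P` for `q ∈ ker p`
    have hsinj : Function.Injective (s.baseChange T) := by
      have hcomp : ((Finsupp.linearCombination Λ (id : P → P)).baseChange T) ∘ₗ (s.baseChange T) =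
          LinearMap.id := by
        rw [← LinearMap.baseChange_comp, hs, LinearMap.baseChange_id]
      exact Function.LeftInverse.injective (g := (Finsupp.linearCombination Λ (id : P → P)).baseChange T)
        (fun z => by
          have := congrArg (fun f => f z) hcomp
          simpa using this)
    have hq0 : ∀ (t : T) (q : LinearMap.ker p), t ⊗ₜ[Λ] (q : P) = 0 := by
      intro t q
      apply hsinj
      rw [LinearMap.baseChange_tmul, map_zero]
      have hsum : s q.1 = ∑ x ∈ (s q.1).support, ((s q.1) x) • Finsupp.single x (1 : Λ) := by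
        conv_lhs => rw [← Finsupp.sum_single (s q.1)]
        rw [Finsupp.sum]
        refine Finset.sum_congr rfl fun x _ => ?_
        rw [Finsupp.smul_single, smul_eq_mul, mul_one]
      rw [hsum, TensorProduct.tmul_sum]
      refine Finset.sum_eq_zero fun x _ => ?_
      rw [TensorProduct.tmul_smul, TensorProduct.smul_tmul', Algebra.smul_def,
        hzero q.1 q.2 x, zero_mul, TensorProduct.zero_tmul]
    have hinj : Function.Injective pT := by
      rw [injective_iff_map_eq_zero]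
      intro z hz
      obtain ⟨w, rfl⟩ := hkerT z hz
      clear hz
      induction w with
      | zero => rw [map_zero]
      | tmul t q => rw [LinearMap.lTensor_tmul, Submodule.subtype_apply]; exact hq0 t q
      | add a b ha hb => rw [map_add, ha, hb, add_zero]
    let e : T ⊗[Λ] P ≃ₗ[T] T ⊗[Λ] Y := LinearEquiv.ofBijective pT ⟨hinj, hpTsurj⟩
    exact Module.Flat.of_linearEquiv e.symm

end StepB

section StepA

variable (Λ : Type u) [CommRing Λ] (𝔫 : Ideal Λ) (Y : Type u) [AddCommGroup Y] [Module Λ Y]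

/-- `1 ⊗ x = 0` in `(Λ ⧸ 𝔫) ⊗ F` iff `x ∈ 𝔫 F`. -/
theorem one_tmul_eq_zero_iff {F : Type*} [AddCommGroup F] [Module Λ F] (x : F) :
    ((1 : Λ ⧸ 𝔫) ⊗ₜ[Λ] x = 0) ↔ x ∈ 𝔫 • (⊤ : Submodule Λ F) := by
  rw [← (TensorProduct.quotTensorEquivQuotSMul F 𝔫).map_eq_zero_iff,
    TensorProduct.quotTensorEquivQuotSMul_mk_one_tmul, Submodule.Quotient.mk_eq_zero]

/-- Every element of `(Λ ⧸ 𝔫) ⊗ F` is of the form `1 ⊗ x`. -/
theorem exists_one_tmul_eq {F : Type*} [AddCommGroup F] [Module Λ F] (z : (Λ ⧸ 𝔫) ⊗[Λ] F) :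
    ∃ x : F, (1 : Λ ⧸ 𝔫) ⊗ₜ[Λ] x = z := by
  induction z with
  | zero => exact ⟨0, by rw [TensorProduct.tmul_zero]⟩
  | tmul a x =>
    obtain ⟨r, rfl⟩ := Ideal.Quotient.mk_surjective a
    refine ⟨r • x, ?_⟩
    rw [TensorProduct.tmul_smul, TensorProduct.smul_tmul', ← Algebra.algebraMap_eq_smul_one]
    rfl
  | add a b ha hb =>
    obtain ⟨x, rfl⟩ := ha
    obtain ⟨y, rfl⟩ := hb
    exact ⟨x + y, by rw [TensorProduct.tmul_add]⟩

local notation "𝐅" => (Y →₀ Λ)

/-- **Step A**: a projective cover which is an isomorphism modulo the nilpotent ideal. -/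
theorem exists_projective_cover (h𝔫 : IsNilpotent 𝔫)
    [Module.Projective (Λ ⧸ 𝔫) ((Λ ⧸ 𝔫) ⊗[Λ] Y)] :
    ∃ (P : Type u) (_ : AddCommGroup P) (_ : Module Λ P) (_ : Module.Projective Λ P)
      (p : P →ₗ[Λ] Y), Function.Surjective p ∧
        LinearMap.ker p ≤ 𝔫 • (⊤ : Submodule Λ P) := by
  classical
  let π : 𝐅 →ₗ[Λ] Y := Finsupp.linearCombination Λ (id : Y → Y)
  have hπ : Function.Surjective π := Finsupp.linearCombination_surjective Λ Function.surjective_id
  let πb : (Λ ⧸ 𝔫) ⊗[Λ] 𝐅 →ₗ[Λ ⧸ 𝔫] (Λ ⧸ 𝔫) ⊗[Λ] Y := π.baseChange (Λ ⧸ 𝔫)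
  have hπb : Function.Surjective πb := by
    show Function.Surjective (π.baseChange (Λ ⧸ 𝔫))
    rw [LinearMap.baseChange_eq_ltensor]
    exact LinearMap.lTensor_surjective _ hπ
  obtain ⟨sb, hsb⟩ := Module.projective_lifting_property πb LinearMap.id hπb
  -- the idempotent downstairs
  let eb : Module.End (Λ ⧸ 𝔫) ((Λ ⧸ 𝔫) ⊗[Λ] 𝐅) := sb ∘ₗ πb
  have heb : IsIdempotentElem eb := by
    show (sb ∘ₗ πb) ∘ₗ (sb ∘ₗ πb) = sb ∘ₗ πb
    rw [LinearMap.comp_assoc, ← LinearMap.comp_assoc πb sb πb, hsb, LinearMap.id_comp]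
  let ρ : Module.End Λ 𝐅 →+* Module.End (Λ ⧸ 𝔫) ((Λ ⧸ 𝔫) ⊗[Λ] 𝐅) :=
    (Module.End.baseChangeHom Λ (Λ ⧸ 𝔫) 𝐅).toRingHom
  have hρ : ∀ (φ : Module.End Λ 𝐅) (x : 𝐅), ρ φ ((1 : Λ ⧸ 𝔫) ⊗ₜ[Λ] x) = (1 : Λ ⧸ 𝔫) ⊗ₜ[Λ] φ x :=
    fun φ x => rfl
  -- surjectivity of `ρ` onto `eb`
  have hrange : eb ∈ RingHom.range (R := Module.End Λ 𝐅) ρ := by
    have hch : ∀ y : Y, ∃ x : 𝐅, (1 : Λ ⧸ 𝔫) ⊗ₜ[Λ] x =
        eb ((1 : Λ ⧸ 𝔫) ⊗ₜ[Λ] (Finsupp.single y (1 : Λ))) := fun y => exists_one_tmul_eq Λ 𝔫 _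
    choose c hc using hch
    let φ : Module.End Λ 𝐅 := Finsupp.linearCombination Λ c
    refine ⟨φ, ?_⟩
    apply LinearMap.ext
    intro z
    obtain ⟨x, rfl⟩ := exists_one_tmul_eq Λ 𝔫 z
    rw [hρ]
    induction x using Finsupp.induction_linear with
    | zero => simp
    | add a b ha hb => rw [map_add, TensorProduct.tmul_add, ha, hb, TensorProduct.tmul_add, map_add]
    | single y r =>
      have h1 : (Finsupp.single y r : 𝐅) = r • Finsupp.single y (1 : Λ) := by
        rw [Finsupp.smul_single, smul_eq_mul, mul_one]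
      rw [h1, map_smul, TensorProduct.tmul_smul, TensorProduct.tmul_smul,
        LinearMap.map_smul_of_tower]
      congr 1
      show (1 : Λ ⧸ 𝔫) ⊗ₜ[Λ] (Finsupp.linearCombination Λ c (Finsupp.single y 1)) = _
      rw [Finsupp.linearCombination_single, one_smul, hc]
  -- nilpotence of the kernel
  have hkerρ : ∀ φ ∈ RingHom.ker (R := Module.End Λ 𝐅) ρ, IsNilpotent φ := by
    intro φ hφ
    have h0 : ∀ x : 𝐅, φ x ∈ 𝔫 • (⊤ : Submodule Λ 𝐅) := by
      intro x
      rw [← one_tmul_eq_zero_iff, ← hρ]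
      have : ρ φ = 0 := hφ
      rw [this, LinearMap.zero_apply]
    obtain ⟨n, hn⟩ := h𝔫
    refine ⟨n + 1, ?_⟩
    have key : ∀ m : ℕ, ∀ x : 𝐅, (φ ^ (m + 1)) x ∈ 𝔫 ^ (m + 1) • (⊤ : Submodule Λ 𝐅) := by
      intro m
      induction m with
      | zero => intro x; simpa using h0 x
      | succ m ih =>
        intro x
        have hmap : ∀ w ∈ 𝔫 ^ (m + 1) • (⊤ : Submodule Λ 𝐅),
            φ w ∈ 𝔫 ^ (m + 1 + 1) • (⊤ : Submodule Λ 𝐅) := by
          intro w hw
          refine Submodule.smul_induction_on hw ?_ ?_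
          · intro a ha y _
            rw [map_smul, pow_succ, Submodule.mul_smul]
            exact Submodule.smul_mem_smul ha (h0 y)
          · intro a b ha hb
            rw [map_add]; exact Submodule.add_mem _ ha hb
        have : (φ ^ (m + 1 + 1)) x = φ ((φ ^ (m + 1)) x) := by
          rw [pow_succ' φ (m + 1)]; rfl
        rw [this]
        exact hmap _ (ih x)
    apply LinearMap.ext
    intro x
    have hx := key n x
    rw [pow_succ, hn, Ideal.zero_eq_bot, Ideal.bot_mul, Submodule.bot_smul, Submodule.mem_bot] at hx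
    rw [hx, LinearMap.zero_apply]
  obtain ⟨e, he, hρe⟩ := exists_isIdempotentElem_eq_of_ker_isNilpotent (R := Module.End Λ 𝐅) ρ hkerρ eb hrange heb
  have hee : ∀ x : 𝐅, e (e x) = e x := fun x => by
    have := congrArg (fun f : Module.End Λ 𝐅 => f x) he.eq
    exact this
  -- the projective module
  let Pm : Submodule Λ 𝐅 := LinearMap.range e
  have hsplit : (e.rangeRestrict) ∘ₗ Pm.subtype = LinearMap.id := by
    apply LinearMap.ext
    rintro ⟨_, z, rfl⟩
    apply Subtype.ext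
    exact hee z
  have hproj : Module.Projective Λ Pm := Module.Projective.of_split Pm.subtype e.rangeRestrict hsplit
  let p : Pm →ₗ[Λ] Y := π ∘ₗ Pm.subtype
  -- key identity: `1 ⊗ π (e x) = 1 ⊗ π x`
  have hkey : ∀ x : 𝐅, (1 : Λ ⧸ 𝔫) ⊗ₜ[Λ] π (e x) = (1 : Λ ⧸ 𝔫) ⊗ₜ[Λ] π x := by
    intro x
    have h1 : (1 : Λ ⧸ 𝔫) ⊗ₜ[Λ] π (e x) = πb ((1 : Λ ⧸ 𝔫) ⊗ₜ[Λ] e x) := rfl
    rw [h1, ← hρ, hρe]
    show πb (sb (πb _)) = _
    have := congrArg (fun f => f (πb ((1 : Λ ⧸ 𝔫) ⊗ₜ[Λ] x))) hsb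
    simp only [LinearMap.comp_apply, LinearMap.id_apply] at this
    rw [this]
    rfl
  refine ⟨Pm, inferInstance, inferInstance, hproj, p, ?_, ?_⟩
  · -- surjectivity by nilpotent Nakayama
    have htop : LinearMap.range p = ⊤ := by
      apply eq_top_of_sup_smul_of_isNilpotent 𝔫 h𝔫
      intro y _
      obtain ⟨x, rfl⟩ := hπ y
      have h2 : π x - π (e x) ∈ 𝔫 • (⊤ : Submodule Λ Y) := by
        rw [← one_tmul_eq_zero_iff, TensorProduct.tmul_sub, hkey, sub_self]
      have h3 : π x = p ⟨e x, x, rfl⟩ + (π x - π (e x)) := by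
        show π x = π (e x) + (π x - π (e x))
        abel
      rw [h3]
      exact Submodule.add_mem _ (Submodule.mem_sup_left ⟨_, rfl⟩) (Submodule.mem_sup_right h2)
    exact LinearMap.range_eq_top.mp htop
  · -- the kernel lies in `𝔫 P`
    rintro ⟨x, z, rfl⟩ hx
    have hx' : π (e z) = 0 := hx
    -- `e z ∈ 𝔫 𝐅`
    have h1 : e z ∈ 𝔫 • (⊤ : Submodule Λ 𝐅) := by
      rw [← one_tmul_eq_zero_iff]
      have h2 : (1 : Λ ⧸ 𝔫) ⊗ₜ[Λ] e z = ρ e ((1 : Λ ⧸ 𝔫) ⊗ₜ[Λ] e z) := by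
        rw [hρ, hee]
      rw [h2, hρe]
      show sb (πb _) = 0
      have : πb ((1 : Λ ⧸ 𝔫) ⊗ₜ[Λ] e z) = (1 : Λ ⧸ 𝔫) ⊗ₜ[Λ] π (e z) := rfl
      rw [this, hx', TensorProduct.tmul_zero, map_zero]
    -- transport to `P`
    have h3 : (⟨e z, z, rfl⟩ : Pm) = e.rangeRestrict (e z) := by
      apply Subtype.ext
      exact (hee z).symm
    rw [h3]
    have hmap : ∀ w ∈ 𝔫 • (⊤ : Submodule Λ 𝐅), e.rangeRestrict w ∈ 𝔫 • (⊤ : Submodule Λ Pm) := by
      intro w hw
      refine Submodule.smul_induction_on hw ?_ ?_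
      · intro a ha y _
        rw [map_smul]
        exact Submodule.smul_mem_smul ha Submodule.mem_top
      · intro a b ha hb
        rw [map_add]; exact Submodule.add_mem _ ha hb
    exact hmap _ h1

/-- **Flattening ideal of a nilpotent thickening**: if `𝔫` is nilpotent and the reduction of `Y`
modulo `𝔫` is projective, then flatness of the base changes of `Y` is cut out by an ideal. -/
theorem exists_flattening_ideal (h𝔫 : IsNilpotent 𝔫)
    [Module.Projective (Λ ⧸ 𝔫) ((Λ ⧸ 𝔫) ⊗[Λ] Y)] :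
    ∃ I : Ideal Λ, ∀ (T : Type u) [CommRing T] [Algebra Λ T],
      Module.Flat T (T ⊗[Λ] Y) ↔ I.map (algebraMap Λ T) = ⊥ := by
  obtain ⟨P, _, _, _, p, hp, hker⟩ := exists_projective_cover Λ 𝔫 Y h𝔫
  exact exists_flattening_ideal_of_cover 𝔫 h𝔫 p hp hker

end StepA

end Groth.Agent.Lib.Helper16.GrFlat
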