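import Mathlib

/-!
# A uniform stabilisation lemma via the Rees algebra (helper16)

`L` a Noetherian ring, `𝔞` an ideal, and `𝔡 K n` a family of ideals, increasing in `K`, with
`𝔡 K n = 𝔡 K (n + 1) + 𝔞 ^ n`.  Then the family stabilises in `K` uniformly in `n`
(`rees_stabilize`).  The proof packages the `𝔡 K (n + 1) ∩ 𝔞 ^ n` into an increasing chain of
ideals of the Rees algebra of `𝔞`.
-/

set_option autoImplicit false
open Polynomial

namespace Groth.Agent.Lib.Helper16.GrFlat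

variable {L : Type*} [CommRing L] (𝔞 : Ideal L) (𝔡 : ℕ → ℕ → Ideal L)

section

variable (hstep : ∀ K n, 𝔡 K n = 𝔡 K (n + 1) ⊔ 𝔞 ^ n)
include hstep

theorem rees_pow_le (K n : ℕ) : 𝔞 ^ n ≤ 𝔡 K n := by
  rw [hstep K n]; exact le_sup_right

theorem rees_succ_le (K n : ℕ) : 𝔡 K (n + 1) ≤ 𝔡 K n := by
  rw [hstep K n]; exact le_sup_left

theorem rees_zero (K : ℕ) : 𝔡 K 0 = ⊤ := by
  have := rees_pow_le 𝔞 𝔡 hstep K 0
  rw [pow_zero, Ideal.one_eq_top] at this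
  exact top_le_iff.mp this

theorem rees_mul_le (K m : ℕ) : 𝔞 * 𝔡 K m ≤ 𝔡 K (m + 1) := by
  conv_lhs => rw [hstep K m]
  rw [Ideal.mul_sup]
  refine sup_le Ideal.mul_le_right ?_
  rw [← pow_succ']
  exact rees_pow_le 𝔞 𝔡 hstep K (m + 1)

theorem rees_pow_mul_le (K m i : ℕ) : 𝔞 ^ i * 𝔡 K m ≤ 𝔡 K (m + i) := by
  induction i with
  | zero => rw [pow_zero, Ideal.one_eq_top, Ideal.top_mul, Nat.add_zero]
  | succ i ih =>
    rw [pow_succ', mul_assoc]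
    calc 𝔞 * (𝔞 ^ i * 𝔡 K m) ≤ 𝔞 * 𝔡 K (m + i) := Ideal.mul_mono_right ih
      _ ≤ 𝔡 K (m + i + 1) := rees_mul_le 𝔞 𝔡 hstep K (m + i)

/-- The ideal of the Rees algebra attached to the `K`-th row. -/
def reesIdeal (hstep : ∀ K n, 𝔡 K n = 𝔡 K (n + 1) ⊔ 𝔞 ^ n) (K : ℕ) : Ideal (reesAlgebra 𝔞) where
  carrier := {f | ∀ n, (f : L[X]).coeff n ∈ 𝔡 K (n + 1)}
  add_mem' := by
    intro f g hf hg n
    simp only [Subalgebra.coe_add, Polynomial.coeff_add]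
    exact Ideal.add_mem _ (hf n) (hg n)
  zero_mem' := by
    intro n
    simp
  smul_mem' := by
    intro r f hf n
    simp only [smul_eq_mul, Subalgebra.coe_mul, Polynomial.coeff_mul]
    refine Ideal.sum_mem _ fun p hp => ?_
    have hr : (r : L[X]).coeff p.1 ∈ 𝔞 ^ p.1 := (mem_reesAlgebra_iff 𝔞 _).mp r.2 p.1
    have hpn : p.1 + p.2 = n := Finset.HasAntidiagonal.mem_antidiagonal.mp hp
    have h1 : (r : L[X]).coeff p.1 * (f : L[X]).coeff p.2 ∈ 𝔞 ^ p.1 * 𝔡 K (p.2 + 1) :=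
      Ideal.mul_mem_mul hr (hf p.2)
    have h2 := rees_pow_mul_le 𝔞 𝔡 hstep K (p.2 + 1) p.1 h1
    have h3 : p.2 + 1 + p.1 = n + 1 := by omega
    rw [h3] at h2
    exact h2

theorem mem_reesIdeal (K : ℕ) (f : reesAlgebra 𝔞) :
    f ∈ reesIdeal 𝔞 𝔡 hstep K ↔ ∀ n, (f : L[X]).coeff n ∈ 𝔡 K (n + 1) := Iff.rfl

/-- **Uniform stabilisation**. -/
theorem rees_stabilize [IsNoetherianRing L] (hmono : ∀ n K K', K ≤ K' → 𝔡 K n ≤ 𝔡 K' n) :
    ∃ K₁, ∀ K, K₁ ≤ K → ∀ n, 𝔡 K n = 𝔡 K₁ n := by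
  let F : ℕ →o Ideal (reesAlgebra 𝔞) :=
    ⟨fun K => reesIdeal 𝔞 𝔡 hstep K, fun K K' hKK' f hf n => hmono (n + 1) K K' hKK' (hf n)⟩
  obtain ⟨K₁, hK₁⟩ := (monotone_stabilizes_iff_noetherian
    (R := reesAlgebra 𝔞) (M := reesAlgebra 𝔞)).mpr inferInstance F
  refine ⟨K₁, fun K hK n => ?_⟩
  induction n with
  | zero => rw [rees_zero 𝔞 𝔡 hstep, rees_zero 𝔞 𝔡 hstep]
  | succ n ih =>
    refine le_antisymm ?_ (hmono (n + 1) K₁ K hK)
    intro x hx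
    have hx' : x ∈ 𝔡 K₁ (n + 1) ⊔ 𝔞 ^ n := by
      rw [← hstep K₁ n, ← ih]
      exact rees_succ_le 𝔞 𝔡 hstep K n hx
    obtain ⟨y, hy, z, hz, rfl⟩ := Submodule.mem_sup.mp hx'
    have hzK : z ∈ 𝔡 K (n + 1) := by
      have : z = (y + z) - y := by ring
      rw [this]
      exact Ideal.sub_mem _ hx (hmono (n + 1) K₁ K hK hy)
    let m : reesAlgebra 𝔞 := ⟨Polynomial.monomial n z, (reesAlgebra.monomial_mem).mpr hz⟩
    have hmK : m ∈ reesIdeal 𝔞 𝔡 hstep K := by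
      intro j
      show (Polynomial.monomial n z).coeff j ∈ 𝔡 K (j + 1)
      rw [Polynomial.coeff_monomial]
      split_ifs with h
      · rw [← h]; exact hzK
      · exact Ideal.zero_mem _
    have hmK₁ : m ∈ reesIdeal 𝔞 𝔡 hstep K₁ := by
      have : F K₁ = F K := hK₁ K hK
      show m ∈ F K₁
      rw [this]
      exact hmK
    have hz₁ : z ∈ 𝔡 K₁ (n + 1) := by
      have := hmK₁ n
      simpa [m, Polynomial.coeff_monomial] using this
    exact Ideal.add_mem _ hy hz₁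

end

end Groth.Agent.Lib.Helper16.GrFlat
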