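import Mathlib
import Groth.Agent.Lib.Helper16.GrFlat.NilFlatten
import Groth.Agent.Lib.Helper16.GrFlat.ReesACC

/-!
# A uniform bound for flatness of a family of modules over one-prime test rings (helper16)

`A₁` Noetherian, `X k` a family of `A₁`-modules which is *generically projective* (`GenProj`).
Then there is `K` such that for every `A₁`-algebra `T` with a single prime ideal
(`OnePrime`: every element is a unit or nilpotent), flatness of `T ⊗ X k` for `k ≤ K` implies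
flatness for all `k` (`exists_bound_of_genProj`).
-/

set_option autoImplicit false
universe u
open TensorProduct

namespace Groth.Agent.Lib.Helper16.GrFlat

/-- Rings in which every element is a unit or nilpotent. -/
def OnePrime (T : Type u) [CommRing T] : Prop := ∀ t : T, IsUnit t ∨ IsNilpotent t

section

variable {A₁ : Type u} [CommRing A₁] (X : ℕ → Type u) [∀ k, AddCommGroup (X k)]
  [∀ k, Module A₁ (X k)]

/-- Generic projectivity of the family `X`. -/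
def GenProj : Prop :=
  ∀ (𝔭 : Ideal A₁) [𝔭.IsPrime] (h : A₁), h ∉ 𝔭 → ∃ g : A₁, g ∉ 𝔭 ∧ h ∣ g ∧
    ∀ (Lq : Type u) [CommRing Lq] [Algebra A₁ Lq], 𝔭.map (algebraMap A₁ Lq) = ⊥ →
      IsUnit (algebraMap A₁ Lq g) → ∀ k, Module.Projective Lq (Lq ⊗[A₁] X k)

/-- The ideal `𝔠` of `A₁[1/g]` cuts out flatness of `X k` among the algebras killed by `𝔟 ^ n` in
which `g` is invertible. -/
def IsCut (𝔟 : Ideal A₁) (g : A₁) (n k : ℕ) (𝔠 : Ideal (Localization.Away g)) : Prop :=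
  (𝔟 ^ n).map (algebraMap A₁ (Localization.Away g)) ≤ 𝔠 ∧
  ∀ (T : Type u) [CommRing T] [Algebra A₁ T] (hu : IsUnit (algebraMap A₁ T g)),
    (𝔟 ^ n).map (algebraMap A₁ T) = ⊥ →
    (Module.Flat T (T ⊗[A₁] X k) ↔
      𝔠 ≤ RingHom.ker (IsLocalization.Away.lift (S := Localization.Away g) g hu))

variable {X}

/-- Flattening ideal of `X k` over an `A₁`-algebra `Λ` in which `g` is invertible and `𝔭 Λ` is
nilpotent. -/
theorem exists_cut_aux (Λ : Type u) [CommRing Λ] [Algebra A₁ Λ] (𝔭 : Ideal A₁) (g : A₁)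
    (hg : IsUnit (algebraMap A₁ Λ g)) (hnil : IsNilpotent (𝔭.map (algebraMap A₁ Λ)))
    (hproj : ∀ (Lq : Type u) [CommRing Lq] [Algebra A₁ Lq], 𝔭.map (algebraMap A₁ Lq) = ⊥ →
      IsUnit (algebraMap A₁ Lq g) → ∀ k, Module.Projective Lq (Lq ⊗[A₁] X k)) (k : ℕ) :
    ∃ I : Ideal Λ, ∀ (T : Type u) [CommRing T] [Algebra Λ T] [Algebra A₁ T]
      [IsScalarTower A₁ Λ T], Module.Flat T (T ⊗[A₁] X k) ↔ I.map (algebraMap Λ T) = ⊥ := by
  set 𝔫 : Ideal Λ := 𝔭.map (algebraMap A₁ Λ) with h𝔫def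
  have hgq : IsUnit (algebraMap A₁ (Λ ⧸ 𝔫) g) := by
    have : algebraMap A₁ (Λ ⧸ 𝔫) g = (Ideal.Quotient.mk 𝔫) (algebraMap A₁ Λ g) := rfl
    rw [this]
    exact hg.map _
  have h𝔭q : 𝔭.map (algebraMap A₁ (Λ ⧸ 𝔫)) = ⊥ := by
    have : algebraMap A₁ (Λ ⧸ 𝔫) = (Ideal.Quotient.mk 𝔫).comp (algebraMap A₁ Λ) := rfl
    rw [this, ← Ideal.map_map, Ideal.map_eq_bot_iff_le_ker, Ideal.mk_ker]
  haveI : Module.Projective (Λ ⧸ 𝔫) ((Λ ⧸ 𝔫) ⊗[Λ] (Λ ⊗[A₁] X k)) := by
    haveI := hproj (Λ ⧸ 𝔫) h𝔭q hgq k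
    exact Module.Projective.of_equiv
      (AlgebraTensorModule.cancelBaseChange A₁ Λ (Λ ⧸ 𝔫) (Λ ⧸ 𝔫) (X k)).symm
  obtain ⟨I, hI⟩ := exists_flattening_ideal Λ 𝔫 (Λ ⊗[A₁] X k) hnil
  refine ⟨I, ?_⟩
  intro T _ _ _ _
  have e : T ⊗[Λ] (Λ ⊗[A₁] X k) ≃ₗ[T] T ⊗[A₁] X k :=
    AlgebraTensorModule.cancelBaseChange A₁ Λ T T (X k)
  have hflat : Module.Flat T (T ⊗[A₁] X k) ↔ Module.Flat T (T ⊗[Λ] (Λ ⊗[A₁] X k)) :=
    ⟨fun _ => Module.Flat.of_linearEquiv e, fun _ => Module.Flat.of_linearEquiv e.symm⟩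
  rw [hflat, hI T]

/-- Existence of the cutting ideals. -/
theorem exists_isCut (𝔟 𝔭 : Ideal A₁) (g : A₁) (N₀ : ℕ)
    (hN₀ : (Ideal.span {g} * 𝔭) ^ N₀ ≤ 𝔟)
    (hproj : ∀ (Lq : Type u) [CommRing Lq] [Algebra A₁ Lq], 𝔭.map (algebraMap A₁ Lq) = ⊥ →
      IsUnit (algebraMap A₁ Lq g) → ∀ k, Module.Projective Lq (Lq ⊗[A₁] X k))
    (n k : ℕ) : ∃ 𝔠 : Ideal (Localization.Away g), IsCut X 𝔟 g n k 𝔠 := by
  have hgL : IsUnit (algebraMap A₁ (Localization.Away g) g) :=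
    IsLocalization.Away.algebraMap_isUnit g
  -- `𝔭 ^ N₀ L ⊆ 𝔟 L`
  have h1 : (𝔭 ^ N₀).map (algebraMap A₁ (Localization.Away g)) ≤
      𝔟.map (algebraMap A₁ (Localization.Away g)) := by
    rw [Ideal.map_le_iff_le_comap]
    intro a ha
    have h2 : g ^ N₀ * a ∈ 𝔟 := by
      apply hN₀
      rw [mul_pow]
      exact Ideal.mul_mem_mul (Ideal.pow_mem_pow (Ideal.mem_span_singleton_self g) N₀) ha
    have h3 : algebraMap A₁ (Localization.Away g) (g ^ N₀ * a) ∈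
        𝔟.map (algebraMap A₁ (Localization.Away g)) := Ideal.mem_map_of_mem _ h2
    rw [map_mul, map_pow] at h3
    exact (Ideal.unit_mul_mem_iff_mem _ (hgL.pow N₀)).mp h3
  have hnil : IsNilpotent (𝔭.map (algebraMap A₁
      (Localization.Away g ⧸ (𝔟 ^ n).map (algebraMap A₁ (Localization.Away g))))) := by
    refine ⟨N₀ * n, ?_⟩
    have h4 : 𝔭.map (algebraMap A₁
        (Localization.Away g ⧸ (𝔟 ^ n).map (algebraMap A₁ (Localization.Away g)))) =
        (𝔭.map (algebraMap A₁ (Localization.Away g))).map (Ideal.Quotient.mk _) := by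
      rw [Ideal.map_map]
      rfl
    rw [h4, ← Ideal.map_pow, Ideal.zero_eq_bot, Ideal.map_eq_bot_iff_le_ker, Ideal.mk_ker,
      pow_mul, ← Ideal.map_pow, Ideal.map_pow (algebraMap A₁ (Localization.Away g)) 𝔟]
    exact Ideal.pow_right_mono h1 n
  have hgΛ : IsUnit (algebraMap A₁
      (Localization.Away g ⧸ (𝔟 ^ n).map (algebraMap A₁ (Localization.Away g))) g) := by
    have : algebraMap A₁
      (Localization.Away g ⧸ (𝔟 ^ n).map (algebraMap A₁ (Localization.Away g))) g =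
        (Ideal.Quotient.mk _) (algebraMap A₁ (Localization.Away g) g) := rfl
    rw [this]
    exact hgL.map _
  obtain ⟨I, hI⟩ := exists_cut_aux
    (Localization.Away g ⧸ (𝔟 ^ n).map (algebraMap A₁ (Localization.Away g))) 𝔭 g hgΛ hnil hproj k
  refine ⟨I.comap (Ideal.Quotient.mk _), ?_, ?_⟩
  · intro x hx
    rw [Ideal.mem_comap, Ideal.Quotient.eq_zero_iff_mem.mpr hx]
    exact Ideal.zero_mem _
  · intro T _ _ hu hT
    set φ : Localization.Away g →+* T := IsLocalization.Away.lift (S := Localization.Away g) g hu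
      with hφ
    have hφc : φ.comp (algebraMap A₁ (Localization.Away g)) = algebraMap A₁ T :=
      IsLocalization.Away.lift_comp g hu
    have hφ0 : ∀ x ∈ (𝔟 ^ n).map (algebraMap A₁ (Localization.Away g)), φ x = 0 := by
      intro x hx
      have : φ x ∈ ((𝔟 ^ n).map (algebraMap A₁ (Localization.Away g))).map φ :=
        Ideal.mem_map_of_mem _ hx
      rw [Ideal.map_map, hφc, hT] at this
      exact this
    let ψ : (Localization.Away g ⧸ (𝔟 ^ n).map (algebraMap A₁ (Localization.Away g))) →+* T :=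
      Ideal.Quotient.lift _ φ hφ0
    letI : Algebra (Localization.Away g ⧸ (𝔟 ^ n).map (algebraMap A₁ (Localization.Away g))) T :=
      ψ.toAlgebra
    haveI : IsScalarTower A₁
        (Localization.Away g ⧸ (𝔟 ^ n).map (algebraMap A₁ (Localization.Away g))) T :=
      IsScalarTower.of_algebraMap_eq (fun a => by
        show algebraMap A₁ T a = ψ ((Ideal.Quotient.mk _) (algebraMap A₁ (Localization.Away g) a))
        rw [Ideal.Quotient.lift_mk, ← hφc]
        rfl)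
    rw [hI T]
    have halg : algebraMap
      (Localization.Away g ⧸ (𝔟 ^ n).map (algebraMap A₁ (Localization.Away g))) T = ψ := rfl
    rw [halg, Ideal.map_eq_bot_iff_le_ker]
    constructor
    · intro h x hx
      rw [RingHom.mem_ker]
      have := h hx
      rw [RingHom.mem_ker, Ideal.Quotient.lift_mk] at this
      exact this
    · intro h y hy
      obtain ⟨x, rfl⟩ := Ideal.Quotient.mk_surjective y
      rw [RingHom.mem_ker, Ideal.Quotient.lift_mk]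
      exact h hy

/-- Evaluation of a cut at a quotient of `A₁[1/g]`. -/
theorem IsCut.flat_quotient_iff {𝔟 : Ideal A₁} {g : A₁} {n k : ℕ}
    {𝔠 : Ideal (Localization.Away g)} (h : IsCut X 𝔟 g n k 𝔠) (𝔞 : Ideal (Localization.Away g))
    (h𝔞 : (𝔟 ^ n).map (algebraMap A₁ (Localization.Away g)) ≤ 𝔞) :
    Module.Flat (Localization.Away g ⧸ 𝔞) ((Localization.Away g ⧸ 𝔞) ⊗[A₁] X k) ↔ 𝔠 ≤ 𝔞 := by
  have hu : IsUnit (algebraMap A₁ (Localization.Away g ⧸ 𝔞) g) := by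
    have : algebraMap A₁ (Localization.Away g ⧸ 𝔞) g =
        (Ideal.Quotient.mk 𝔞) (algebraMap A₁ (Localization.Away g) g) := rfl
    rw [this]
    exact (IsLocalization.Away.algebraMap_isUnit g).map _
  have hT : (𝔟 ^ n).map (algebraMap A₁ (Localization.Away g ⧸ 𝔞)) = ⊥ := by
    have : algebraMap A₁ (Localization.Away g ⧸ 𝔞) =
        (Ideal.Quotient.mk 𝔞).comp (algebraMap A₁ (Localization.Away g)) := rfl
    rw [this, ← Ideal.map_map, Ideal.map_eq_bot_iff_le_ker, Ideal.mk_ker]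
    exact h𝔞
  rw [h.2 _ hu hT]
  have hlift : IsLocalization.Away.lift (S := Localization.Away g) g hu = Ideal.Quotient.mk 𝔞 := by
    apply IsLocalization.ringHom_ext (Submonoid.powers g)
    rw [IsLocalization.Away.lift_comp]
    rfl
  rw [hlift, Ideal.mk_ker]

/-- Compatibility of the cuts for consecutive exponents. -/
theorem IsCut.eq_sup {𝔟 : Ideal A₁} {g : A₁} {n k : ℕ} {𝔠 𝔠' : Ideal (Localization.Away g)}
    (h : IsCut X 𝔟 g n k 𝔠) (h' : IsCut X 𝔟 g (n + 1) k 𝔠') :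
    𝔠 = 𝔠' ⊔ (𝔟 ^ n).map (algebraMap A₁ (Localization.Away g)) := by
  have hle : (𝔟 ^ (n + 1)).map (algebraMap A₁ (Localization.Away g)) ≤
      (𝔟 ^ n).map (algebraMap A₁ (Localization.Away g)) :=
    Ideal.map_mono (Ideal.pow_le_pow_right (Nat.le_succ n))
  apply le_antisymm
  · have h1 := (h'.flat_quotient_iff _ (hle.trans le_sup_right)).mpr
      (le_sup_left : 𝔠' ≤ 𝔠' ⊔ (𝔟 ^ n).map (algebraMap A₁ (Localization.Away g)))
    exact (h.flat_quotient_iff _ le_sup_right).mp h1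
  · refine sup_le ?_ h.1
    have h1 := (h.flat_quotient_iff 𝔠 h.1).mpr le_rfl
    exact (h'.flat_quotient_iff 𝔠 (hle.trans h.1)).mp h1

variable (X)

/-- **Uniform bound over one-prime test rings**, by Noetherian induction on `𝔟`. -/
theorem exists_bound_of_genProj_aux [IsNoetherianRing A₁] (hX : GenProj (A₁ := A₁) X) (𝔟 : Ideal A₁) :
    ∃ K : ℕ, ∀ (T : Type u) [CommRing T] [Algebra A₁ T], OnePrime T →
      (∃ n, (𝔟 ^ n).map (algebraMap A₁ T) = ⊥) →
      (∀ k ≤ K, Module.Flat T (T ⊗[A₁] X k)) → ∀ k, Module.Flat T (T ⊗[A₁] X k) := by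
  classical
  induction 𝔟 using IsNoetherian.induction with
  | hgt 𝔟 IH =>
  by_cases htop : 𝔟 = ⊤
  · refine ⟨0, fun T _ _ _ ⟨n, hn⟩ _ k => ?_⟩
    rw [htop, Ideal.top_pow, Ideal.map_top] at hn
    haveI : Subsingleton T := by
      apply subsingleton_of_zero_eq_one
      have : (1 : T) ∈ (⊤ : Ideal T) := Submodule.mem_top
      rw [hn] at this
      exact ((Submodule.mem_bot T).mp this).symm
    haveI : Subsingleton (T ⊗[A₁] X k) := Module.subsingleton T _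
    infer_instance
  · obtain ⟨⟨𝔭, h𝔭⟩⟩ := Ideal.nonempty_minimalPrimes htop
    haveI h𝔭prime : 𝔭.IsPrime := h𝔭.1.1
    have h𝔟𝔭 : 𝔟 ≤ 𝔭 := h𝔭.1.2
    have hfin := Ideal.finite_minimalPrimes_of_isNoetherianRing A₁ 𝔟
    -- an element of the other minimal primes outside `𝔭`
    obtain ⟨h, hh𝔭, hh⟩ : ∃ h : A₁, h ∉ 𝔭 ∧ ∀ 𝔭' ∈ Ideal.minimalPrimes 𝔟, 𝔭' ≠ 𝔭 → h ∈ 𝔭' := by
      by_contra hcon
      push Not at hcon
      have hle : (hfin.toFinset.erase 𝔭).inf id ≤ 𝔭 := by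
        intro x hx
        by_contra hx𝔭
        obtain ⟨𝔭', h𝔭', hne, hxn⟩ := hcon x hx𝔭
        apply hxn
        have hmem : 𝔭' ∈ hfin.toFinset.erase 𝔭 :=
          Finset.mem_erase.mpr ⟨hne, hfin.mem_toFinset.mpr h𝔭'⟩
        exact (Finset.inf_le hmem : (hfin.toFinset.erase 𝔭).inf id ≤ id 𝔭') hx
      obtain ⟨𝔭', h𝔭', hle'⟩ := (Ideal.IsPrime.inf_le' h𝔭prime).mp hle
      obtain ⟨hne, hmem⟩ := Finset.mem_erase.mp h𝔭'
      have hmin : 𝔭' ∈ Ideal.minimalPrimes 𝔟 := hfin.mem_toFinset.mp hmem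
      exact hne (le_antisymm hle' (h𝔭.2 hmin.1 hle'))
    obtain ⟨g, hg𝔭, hhg, hproj⟩ := hX 𝔭 h hh𝔭
    -- `g 𝔭 ⊆ rad 𝔟`
    have hrad : Ideal.span {g} * 𝔭 ≤ Ideal.radical 𝔟 := by
      rw [Ideal.mul_le]
      intro r hr a ha
      obtain ⟨c, rfl⟩ := Ideal.mem_span_singleton'.mp hr
      rw [← Ideal.sInf_minimalPrimes, Ideal.mem_sInf]
      intro 𝔭' h𝔭'
      by_cases hne : 𝔭' = 𝔭
      · rw [hne]
        exact Ideal.mul_mem_left _ _ ha
      · obtain ⟨q, rfl⟩ := hhg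
        have := hh 𝔭' h𝔭' hne
        have h2 : c * (h * q) * a = (c * q * a) * h := by ring
        rw [h2]
        exact Ideal.mul_mem_left _ _ this
    obtain ⟨N₀, hN₀⟩ := Ideal.exists_pow_le_of_le_radical_of_fg hrad
      (IsNoetherian.noetherian _)
    -- induction hypothesis for `𝔟 + (g)`
    have hlt : 𝔟 < 𝔟 ⊔ Ideal.span {g} := by
      refine lt_of_le_of_ne le_sup_left fun heq => hg𝔭 (h𝔟𝔭 ?_)
      rw [heq]
      exact Ideal.mem_sup_right (Ideal.mem_span_singleton_self g)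
    obtain ⟨K₂, hK₂⟩ := IH _ hlt
    -- the cuts
    have hcut := fun n k => exists_isCut (X := X) 𝔟 𝔭 g N₀ hN₀ hproj n k
    choose 𝔠 h𝔠 using hcut
    set 𝔞 : Ideal (Localization.Away g) := Ideal.map (algebraMap A₁ (Localization.Away g)) 𝔟 with h𝔞
    let 𝔡 : ℕ → ℕ → Ideal (Localization.Away g) :=
      fun K n => (Finset.range (K + 1)).sup (fun k => 𝔠 n k)
    have hstep : ∀ K n, 𝔡 K n = 𝔡 K (n + 1) ⊔ 𝔞 ^ n := by
      intro K n
      have h1 : ∀ k, 𝔠 n k = 𝔠 (n + 1) k ⊔ 𝔞 ^ n := by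
        intro k
        rw [h𝔞, ← Ideal.map_pow]
        exact (h𝔠 n k).eq_sup (h𝔠 (n + 1) k)
      show (Finset.range (K + 1)).sup (fun k => 𝔠 n k) =
        (Finset.range (K + 1)).sup (fun k => 𝔠 (n + 1) k) ⊔ 𝔞 ^ n
      have h2 : (fun k => 𝔠 n k) = (fun k => 𝔠 (n + 1) k) ⊔ (fun _ => 𝔞 ^ n) := by
        funext k
        exact h1 k
      rw [h2, Finset.sup_sup, Finset.sup_const (Finset.nonempty_range_add_one)]
    have hmono : ∀ n K K', K ≤ K' → 𝔡 K n ≤ 𝔡 K' n := by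
      intro n K K' hKK'
      exact Finset.sup_mono (Finset.range_mono (Nat.add_le_add_right hKK' 1))
    obtain ⟨K₁, hK₁⟩ := rees_stabilize 𝔞 𝔡 hstep hmono
    have h𝔠𝔡 : ∀ n k, 𝔠 n k ≤ 𝔡 K₁ n := by
      intro n k
      rw [← hK₁ (max k K₁) (le_max_right _ _) n]
      exact Finset.le_sup (f := fun k => 𝔠 n k)
        (Finset.mem_range.mpr (Nat.lt_succ_of_le (le_max_left k K₁)))
    refine ⟨max K₁ K₂, fun T _ _ hT ⟨n, hn⟩ hflat k => ?_⟩
    rcases hT (algebraMap A₁ T g) with hu | hnil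
    · -- `g` invertible in `T`
      rw [(h𝔠 n k).2 T hu hn]
      refine (h𝔠𝔡 n k).trans ?_
      refine Finset.sup_le fun j hj => ?_
      rw [← (h𝔠 n j).2 T hu hn]
      exact hflat j ((Nat.lt_succ_iff.mp (Finset.mem_range.mp hj)).trans (le_max_left _ _))
    · -- `g` nilpotent in `T`
      obtain ⟨m, hm⟩ := hnil
      refine hK₂ T hT ⟨n + m, ?_⟩ (fun j hj => hflat j (hj.trans (le_max_right _ _))) k
      rw [eq_bot_iff]
      refine (Ideal.map_mono Ideal.sup_pow_add_le_pow_sup_pow).trans ?_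
      rw [Ideal.map_sup, hn, bot_sup_eq, Ideal.span_singleton_pow, Ideal.map_span,
        Set.image_singleton, map_pow, hm, Ideal.span_singleton_eq_bot.mpr rfl]

/-- **Uniform bound over one-prime test rings**. -/
theorem exists_bound_of_genProj [IsNoetherianRing A₁] (hX : GenProj (A₁ := A₁) X) :
    ∃ K : ℕ, ∀ (T : Type u) [CommRing T] [Algebra A₁ T], OnePrime T →
      (∀ k ≤ K, Module.Flat T (T ⊗[A₁] X k)) → ∀ k, Module.Flat T (T ⊗[A₁] X k) := by
  obtain ⟨K, hK⟩ := exists_bound_of_genProj_aux X hX ⊥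
  exact ⟨K, fun T _ _ hT hflat k => hK T hT ⟨1, by rw [pow_one, Ideal.map_bot]⟩ hflat k⟩

end

end Groth.Agent.Lib.Helper16.GrFlat
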