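import Mathlib
import Groth.Agent.Lib.Helper47.GrStratCore
import Groth.Agent.Lib.Helper16.GrFlat.UniformBound
import Groth.Agent.Lib.Helper16.GrFlat.TruncBC

/-!
# Generic projectivity of the truncations `N / JᵏN` (helper16)

Projective refinement of helper47's `GrStrat.exists_flat_localized_trunc`, and the resulting
`GenProj` property of the family of truncations of a finite module over a polynomial ring over a
Noetherian ring.
-/

set_option autoImplicit false
universe u
open TensorProduct

namespace Groth.Agent.Lib.Helper16.GrFlat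

open Groth.Agent.Lib.Helper47.GrStrat

/-- An extension of projective modules is projective. -/
theorem projective_of_exact {R : Type*} [CommRing R] {M₁ M₂ M₃ : Type*}
    [AddCommGroup M₁] [Module R M₁] [AddCommGroup M₂] [Module R M₂] [AddCommGroup M₃] [Module R M₃]
    [Module.Projective R M₁] [Module.Projective R M₃]
    (i : M₁ →ₗ[R] M₂) (p : M₂ →ₗ[R] M₃) (hi : Function.Injective i) (hp : Function.Surjective p)
    (hex : Function.Exact i p) : Module.Projective R M₂ := by
  obtain ⟨s, hs⟩ := p.exists_rightInverse_of_surjective (LinearMap.range_eq_top.mpr hp)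
  have hs' : ∀ x, p (s x) = x := fun x => by
    have := congrArg (fun f => f x) hs
    simpa using this
  let φ : (M₁ × M₃) →ₗ[R] M₂ := i.coprod s
  have hφ : Function.Bijective φ := by
    constructor
    · rw [injective_iff_map_eq_zero]
      rintro ⟨a, b⟩ hab
      have h1 : i a + s b = 0 := by simpa [φ] using hab
      have h2 : b = 0 := by
        have := congrArg p h1
        rw [map_add, hs', map_zero, (hex (i a)).mpr ⟨a, rfl⟩, zero_add] at this
        exact this
      rw [h2, map_zero, add_zero] at h1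
      rw [h2, (injective_iff_map_eq_zero i).mp hi a h1]
      rfl
    · intro m
      have h1 : p (m - s (p m)) = 0 := by rw [map_sub, hs', sub_self]
      obtain ⟨a, ha⟩ := (hex _).mp h1
      refine ⟨(a, p m), ?_⟩
      show i a + s (p m) = m
      rw [ha]
      abel
  exact Module.Projective.of_equiv (LinearEquiv.ofBijective φ hφ)

section Core

variable {R B : Type u} [CommRing R] [IsReduced R] [CommRing B] [IsNoetherianRing B] [Algebra R B]
  [Algebra.FiniteType R B] (J : Ideal B) (N : Type u) [AddCommGroup N] [Module B N]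
  [Module.Finite B N] [Module R N] [IsScalarTower R B N]

open AssocGr Groth.Agent.Lib.Helper47.GrFinite in
/-- Generic freeness of `gr_J(N)` over the reduced ring `R`, giving projectivity of the localised
pieces. -/
theorem exists_projective_localized_piece (h : R) (hh : h ≠ 0) :
    ∃ f : R, h ∣ f ∧ f ≠ 0 ∧ ∀ k : ℕ,
      Module.Projective (Localization.Away f)
        (LocalizedModule (Submonoid.powers f) (Piece J N k)) := by
  classical
  let F := Rees.powFilt J N
  have hN : ∀ i, (F.N i).FG := fun i => IsNoetherian.noetherian _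
  have hF : F.Stable := Ideal.stableFiltration_stable J ⊤
  let 𝒢 := GrRing (FiltBl.IdealFiltration.adic J)
  let G := GrMod F
  letI : Algebra R 𝒢 := ((algebraMap B 𝒢).comp (algebraMap R B)).toAlgebra
  haveI : IsScalarTower R B 𝒢 := IsScalarTower.of_algebraMap_eq (fun _ => rfl)
  haveI hft1 : Algebra.FiniteType B 𝒢 := finiteType_grRing_base J (IsNoetherian.noetherian J)
  haveI : Algebra.FiniteType R 𝒢 := Algebra.FiniteType.trans ‹Algebra.FiniteType R B› hft1
  letI : Module R G := Module.compHom G (algebraMap R B)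
  haveI : IsScalarTower R B G := IsScalarTower.of_compHom R B G
  haveI : IsScalarTower R 𝒢 G := by
    refine ⟨fun r g x => ?_⟩
    have h1 : r • g = algebraMap B 𝒢 (algebraMap R B r) * g := by
      rw [Algebra.smul_def]; rfl
    have h2 : ∀ y : G, r • y = (algebraMap R B r) • y := fun y => rfl
    rw [h1, mul_smul, algebraMap_smul, h2]
  haveI : Module.Finite 𝒢 G := finite_grMod F hN hF
  obtain ⟨f, hhf, hf0, hfree, -⟩ := Groth.Agent.Lib.Helper91.generic_freeness_reduced_aux
    (R := R) (S := 𝒢) (M := G) h hh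
  refine ⟨f, hhf, hf0, fun k => ?_⟩
  haveI : Module.Free (Localization.Away f) (LocalizedModule (Submonoid.powers f) G) := hfree
  -- the retract
  let e := Groth.Agent.S16455.PhiEquiv F (Groth.Agent.S16455.powFilt_succ J N)
  let i0 : Piece J N k →ₗ[B ⧸ J] G :=
    e.toLinearMap ∘ₗ DirectSum.lof (B ⧸ J) ℕ (fun n => Groth.Agent.S16455.P F n) k
  let r0 : G →ₗ[B ⧸ J] Piece J N k :=
    DirectSum.component (B ⧸ J) ℕ (fun n => Groth.Agent.S16455.P F n) k ∘ₗ e.symm.toLinearMap
  have hri0 : ∀ x, r0 (i0 x) = x := by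
    intro x
    simp only [i0, r0, LinearMap.comp_apply, LinearEquiv.coe_coe, LinearEquiv.symm_apply_apply]
    exact DirectSum.component.lof_self (B ⧸ J) (M := fun n => Groth.Agent.S16455.P F n) k x
  let i1 : Piece J N k →ₗ[R] G := (i0.restrictScalars B).restrictScalars R
  let r1 : G →ₗ[R] Piece J N k := (r0.restrictScalars B).restrictScalars R
  have hri1 : r1.comp i1 = LinearMap.id := LinearMap.ext hri0
  let iL := IsLocalizedModule.mapExtendScalars (Submonoid.powers f)
    (LocalizedModule.mkLinearMap (Submonoid.powers f) (Piece J N k))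
    (LocalizedModule.mkLinearMap (Submonoid.powers f) G) (Localization.Away f) i1
  let rL := IsLocalizedModule.mapExtendScalars (Submonoid.powers f)
    (LocalizedModule.mkLinearMap (Submonoid.powers f) G)
    (LocalizedModule.mkLinearMap (Submonoid.powers f) (Piece J N k)) (Localization.Away f) r1
  have hL : rL.comp iL = LinearMap.id := by
    apply LinearMap.restrictScalars_injective R
    show (IsLocalizedModule.map (Submonoid.powers f) _ _ r1).comp
      (IsLocalizedModule.map (Submonoid.powers f) _ _ i1) = LinearMap.id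
    rw [← IsLocalizedModule.map_comp', hri1, IsLocalizedModule.map_id]
  exact Module.Projective.of_split iL rL hL

/-- Inside any nonempty `D(h)` there is a nonempty `D(f)` over which all truncations `N / JᵏN`
become projective. -/
theorem exists_projective_localized_trunc (h : R) (hh : h ≠ 0) :
    ∃ f : R, h ∣ f ∧ f ≠ 0 ∧ ∀ k : ℕ,
      Module.Projective (Localization.Away f)
        (LocalizedModule (Submonoid.powers f) (Trunc J N k)) := by
  obtain ⟨f, hhf, hf0, hproj⟩ := exists_projective_localized_piece J N h hh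
  refine ⟨f, hhf, hf0, fun k => ?_⟩
  induction k with
  | zero =>
    haveI : Subsingleton (Trunc J N 0) := by
      have : (J ^ 0 • (⊤ : Submodule B N)) = ⊤ := by
        rw [pow_zero, Ideal.one_eq_top, Submodule.top_smul]
      exact Submodule.Quotient.subsingleton_iff.mpr this
    haveI : Subsingleton (LocalizedModule (Submonoid.powers f) (Trunc J N 0)) := inferInstance
    infer_instance
  | succ k ih =>
    haveI := ih
    haveI := hproj k
    let S := Submonoid.powers f
    let i1 : Piece J N k →ₗ[R] Trunc J N (k + 1) := (pieceIncl J N k).restrictScalars R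
    let p1 : Trunc J N (k + 1) →ₗ[R] Trunc J N k := (truncProj J N k).restrictScalars R
    have hex : Function.Exact i1 p1 := exact_pieceIncl_truncProj J N k
    exact projective_of_exact
      (IsLocalizedModule.mapExtendScalars S (LocalizedModule.mkLinearMap S _)
        (LocalizedModule.mkLinearMap S _) (Localization.Away f) i1)
      (IsLocalizedModule.mapExtendScalars S (LocalizedModule.mkLinearMap S _)
        (LocalizedModule.mkLinearMap S _) (Localization.Away f) p1)
      (IsLocalizedModule.map_injective S _ _ i1 (pieceIncl_injective J N k))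
      (IsLocalizedModule.map_surjective S _ _ p1 (truncProj_surjective J N k))
      (IsLocalizedModule.map_exact S _ _ _ i1 p1 hex)

end Core

section Chain

/-- Projectivity along a tower `A → R → R_f → Lq`. -/
theorem projective_of_tower {A R Rf Lq : Type u} [CommRing A] [CommRing R] [CommRing Rf]
    [CommRing Lq] [Algebra A R] [Algebra R Rf] [Algebra Rf Lq] [Algebra A Lq] [Algebra R Lq]
    [IsScalarTower A R Lq] [IsScalarTower R Rf Lq]
    (X : Type u) [AddCommGroup X] [Module A X]
    (Q : Type u) [AddCommGroup Q] [Module Rf Q] [Module.Projective Rf Q]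
    (e : Rf ⊗[R] (R ⊗[A] X) ≃ₗ[Rf] Q) :
    Module.Projective Lq (Lq ⊗[A] X) := by
  have e1 : Lq ⊗[A] X ≃ₗ[Lq] Lq ⊗[R] (R ⊗[A] X) :=
    (AlgebraTensorModule.cancelBaseChange A R Lq Lq X).symm
  have e2 : Lq ⊗[R] (R ⊗[A] X) ≃ₗ[Lq] Lq ⊗[Rf] (Rf ⊗[R] (R ⊗[A] X)) :=
    (AlgebraTensorModule.cancelBaseChange R Rf Lq Lq (R ⊗[A] X)).symm
  have e3 : Lq ⊗[Rf] (Rf ⊗[R] (R ⊗[A] X)) ≃ₗ[Lq] Lq ⊗[Rf] Q :=
    AlgebraTensorModule.congr (LinearEquiv.refl Lq Lq) e
  exact Module.Projective.of_equiv (e1 ≪≫ₗ e2 ≪≫ₗ e3).symm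

end Chain

section Gen

attribute [local instance] MvPolynomial.algebraMvPolynomial

variable {A₁ : Type u} [CommRing A₁] [IsNoetherianRing A₁] {n : ℕ}
  (J₁ : Ideal (MvPolynomial (Fin n) A₁)) (M₁ : Type u) [AddCommGroup M₁]
  [Module (MvPolynomial (Fin n) A₁) M₁] [Module.Finite (MvPolynomial (Fin n) A₁) M₁]
  [Module A₁ M₁] [IsScalarTower A₁ (MvPolynomial (Fin n) A₁) M₁]

/-- **Generic projectivity** of the truncations of a finite module over a polynomial ring over a
Noetherian ring. -/
theorem genProj_trunc : GenProj (A₁ := A₁) (fun k => Trunc J₁ M₁ k) := by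
  intro 𝔭 _ h hh
  have hh' : (Ideal.Quotient.mk 𝔭 h) ≠ 0 := fun h0 => hh (Ideal.Quotient.eq_zero_iff_mem.mp h0)
  obtain ⟨f, hhf, hf0, hproj⟩ := exists_projective_localized_trunc
    (R := A₁ ⧸ 𝔭) (B := MvPolynomial (Fin n) (A₁ ⧸ 𝔭))
    (J₁.map (algebraMap (MvPolynomial (Fin n) A₁) (MvPolynomial (Fin n) (A₁ ⧸ 𝔭))))
    (MvPolynomial (Fin n) (A₁ ⧸ 𝔭) ⊗[MvPolynomial (Fin n) A₁] M₁) (Ideal.Quotient.mk 𝔭 h) hh'
  obtain ⟨qb, rfl⟩ := hhf
  obtain ⟨q, rfl⟩ := Ideal.Quotient.mk_surjective qb
  refine ⟨h * q, ?_, dvd_mul_right h q, ?_⟩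
  · intro hmem
    apply hf0
    rw [← map_mul]
    exact Ideal.Quotient.eq_zero_iff_mem.mpr hmem
  · intro Lq _ _ h𝔭Lq hgLq k
    -- the algebra structures
    let φ : A₁ ⧸ 𝔭 →+* Lq := Ideal.Quotient.lift 𝔭 (algebraMap A₁ Lq) (fun a ha => by
      have : algebraMap A₁ Lq a ∈ 𝔭.map (algebraMap A₁ Lq) := Ideal.mem_map_of_mem _ ha
      rw [h𝔭Lq] at this
      exact this)
    letI : Algebra (A₁ ⧸ 𝔭) Lq := φ.toAlgebra
    haveI : IsScalarTower A₁ (A₁ ⧸ 𝔭) Lq := IsScalarTower.of_algebraMap_eq (fun a => rfl)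
    have hfLq : IsUnit (algebraMap (A₁ ⧸ 𝔭) Lq
        (Ideal.Quotient.mk 𝔭 h * Ideal.Quotient.mk 𝔭 q)) := by
      rw [← map_mul]
      exact hgLq
    let ψ : Localization.Away (Ideal.Quotient.mk 𝔭 h * Ideal.Quotient.mk 𝔭 q) →+* Lq :=
      IsLocalization.Away.lift (Ideal.Quotient.mk 𝔭 h * Ideal.Quotient.mk 𝔭 q) hfLq
    letI : Algebra (Localization.Away (Ideal.Quotient.mk 𝔭 h * Ideal.Quotient.mk 𝔭 q)) Lq :=
      ψ.toAlgebra
    haveI : IsScalarTower (A₁ ⧸ 𝔭)
        (Localization.Away (Ideal.Quotient.mk 𝔭 h * Ideal.Quotient.mk 𝔭 q)) Lq :=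
      IsScalarTower.of_algebraMap_eq (fun a => (IsLocalization.Away.lift_eq _ hfLq a).symm)
    haveI := hproj k
    -- the identification of the localized truncation
    have hbc : IsBaseChange (Localization.Away (Ideal.Quotient.mk 𝔭 h * Ideal.Quotient.mk 𝔭 q))
        (LocalizedModule.mkLinearMap
          (Submonoid.powers (Ideal.Quotient.mk 𝔭 h * Ideal.Quotient.mk 𝔭 q))
          (Trunc (J₁.map (algebraMap (MvPolynomial (Fin n) A₁) (MvPolynomial (Fin n) (A₁ ⧸ 𝔭))))
            (MvPolynomial (Fin n) (A₁ ⧸ 𝔭) ⊗[MvPolynomial (Fin n) A₁] M₁) k)) :=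
      (isLocalizedModule_iff_isBaseChange
        (Submonoid.powers (Ideal.Quotient.mk 𝔭 h * Ideal.Quotient.mk 𝔭 q)) _ _).mp inferInstance
    exact projective_of_tower (A := A₁) (R := A₁ ⧸ 𝔭)
      (Rf := Localization.Away (Ideal.Quotient.mk 𝔭 h * Ideal.Quotient.mk 𝔭 q)) (Lq := Lq)
      (Trunc J₁ M₁ k) _
      ((AlgebraTensorModule.congr (LinearEquiv.refl _ _)
        (truncBaseChangePoly (T := A₁ ⧸ 𝔭) J₁ M₁ k)) ≪≫ₗ hbc.equiv)

end Gen

end Groth.Agent.Lib.Helper16.GrFlat
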