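import Mathlib
import Groth.Agent.H76.LocalCritPow
import Groth.Agent.H76.FlatLocal
import Groth.Agent.H76.FlatBaseChange
import Groth.Agent.Lib.Helper16.GrFlat.UniformBound

/-!
# Infinitesimal criterion of flatness, global Noetherian form (helper16)

`T` Noetherian, `S` a Noetherian `T`-algebra, `N` a finite `S`-module.  If `T' ⊗ N` is flat over
`T'` for every `T`-algebra `T'` with a single prime ideal, then `N` is flat over `T`
(`flat_of_forall_onePrime`).  The test rings actually used are `T_𝔮 / 𝔮 ^ (n + 1) T_𝔮`.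
-/

set_option autoImplicit false
universe u
open TensorProduct

namespace Groth.Agent.Lib.Helper16.GrFlat

section Core

variable {T : Type u} [CommRing T] (𝔮 : Ideal T) [𝔮.IsPrime] (n : ℕ)

/-- The image of the complement of `𝔮` in `T ⧸ 𝔮 ^ (n + 1)`. -/
abbrev quotCompl : Submonoid (T ⧸ 𝔮 ^ (n + 1)) :=
  𝔮.primeCompl.map (Ideal.Quotient.mk (𝔮 ^ (n + 1)))

/-- The one-prime test ring `T_𝔮 / 𝔮 ^ (n + 1) T_𝔮`. -/
abbrev TestRing : Type u := Localization (quotCompl 𝔮 n)

theorem onePrime_testRing : OnePrime (TestRing 𝔮 n) := by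
  intro x
  obtain ⟨a, w, rfl⟩ := IsLocalization.exists_mk'_eq (quotCompl 𝔮 n) x
  obtain ⟨t, rfl⟩ := Ideal.Quotient.mk_surjective a
  by_cases ht : t ∈ 𝔮
  · right
    refine ⟨n + 1, ?_⟩
    rw [← IsLocalization.mk'_pow, ← map_pow,
      Ideal.Quotient.eq_zero_iff_mem.mpr (Ideal.pow_mem_pow ht _), IsLocalization.mk'_zero]
  · left
    have h1 : IsUnit (algebraMap (T ⧸ 𝔮 ^ (n + 1)) (TestRing 𝔮 n)
        (Ideal.Quotient.mk (𝔮 ^ (n + 1)) t)) :=
      IsLocalization.map_units (TestRing 𝔮 n)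
        (⟨Ideal.Quotient.mk (𝔮 ^ (n + 1)) t, t, ht, rfl⟩ : quotCompl 𝔮 n)
    rw [← IsLocalization.mk'_spec (TestRing 𝔮 n) (Ideal.Quotient.mk (𝔮 ^ (n + 1)) t) w] at h1
    exact isUnit_of_mul_isUnit_left h1

/-- **Core step**: kernels of `u ⊗ N` are `𝔮`-locally zero when `u` is an injection between
modules killed by `𝔮 ^ (n + 1)` and `N` is flat after base change to the test ring. -/
theorem exists_smul_eq_zero_of_flat_testRing (N : Type u) [AddCommGroup N] [Module T N]
    [Module.Flat (TestRing 𝔮 n) (TestRing 𝔮 n ⊗[T] N)]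
    {X Y : Type u} [AddCommGroup X] [Module T X] [AddCommGroup Y] [Module T Y]
    (u : X →ₗ[T] Y) (hu : Function.Injective u) (hY : ∀ i ∈ 𝔮 ^ (n + 1), ∀ y : Y, i • y = 0)
    (z : X ⊗[T] N) (hz : u.rTensor N z = 0) : ∃ t ∉ 𝔮, t • z = 0 := by
  have hX : ∀ i ∈ 𝔮 ^ (n + 1), ∀ x : X, i • x = 0 := by
    intro i hi x
    apply hu
    rw [map_smul, hY i hi, map_zero]
  have tX : Module.IsTorsionBySet T X ((𝔮 ^ (n + 1) : Ideal T) : Set T) :=
    fun x i => hX i.1 i.2 x
  have tY : Module.IsTorsionBySet T Y ((𝔮 ^ (n + 1) : Ideal T) : Set T) :=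
    fun y i => hY i.1 i.2 y
  letI mX : Module (T ⧸ 𝔮 ^ (n + 1)) X := tX.module
  letI mY : Module (T ⧸ 𝔮 ^ (n + 1)) Y := tY.module
  haveI sX : IsScalarTower T (T ⧸ 𝔮 ^ (n + 1)) X := tX.isScalarTower
  haveI sY : IsScalarTower T (T ⧸ 𝔮 ^ (n + 1)) Y := tY.isScalarTower
  -- the `T''`-linear version of `u`
  let u'' : X →ₗ[T ⧸ 𝔮 ^ (n + 1)] Y :=
    { toFun := u
      map_add' := u.map_add
      map_smul' := by
        intro r x
        obtain ⟨r, rfl⟩ := Ideal.Quotient.mk_surjective r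
        show u (Ideal.Quotient.mk _ r • x) = Ideal.Quotient.mk _ r • u x
        rw [tX.mk_smul, tY.mk_smul, map_smul] }
  have hu'' : Function.Injective u'' := hu
  -- localize
  let uW : LocalizedModule (quotCompl 𝔮 n) X →ₗ[TestRing 𝔮 n] LocalizedModule (quotCompl 𝔮 n) Y :=
    IsLocalizedModule.mapExtendScalars (quotCompl 𝔮 n)
      (LocalizedModule.mkLinearMap (quotCompl 𝔮 n) X)
      (LocalizedModule.mkLinearMap (quotCompl 𝔮 n) Y) (TestRing 𝔮 n) u''
  have huW : Function.Injective uW :=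
    IsLocalizedModule.map_injective (quotCompl 𝔮 n)
      (LocalizedModule.mkLinearMap (quotCompl 𝔮 n) X)
      (LocalizedModule.mkLinearMap (quotCompl 𝔮 n) Y) u'' hu''
  haveI i1 : IsScalarTower T (TestRing 𝔮 n) (LocalizedModule (quotCompl 𝔮 n) X) := inferInstance
  haveI i2 : IsScalarTower T (TestRing 𝔮 n) (LocalizedModule (quotCompl 𝔮 n) Y) := inferInstance
  have hinj : Function.Injective ((uW.restrictScalars T).rTensor N) :=
    Groth.Agent.H76.FlatGlue.rTensor_injective_of_flat_baseChange (R := T) (S := TestRing 𝔮 n)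
      N uW huW
  -- the commutative square
  let ιX : X →ₗ[T] LocalizedModule (quotCompl 𝔮 n) X :=
    (LocalizedModule.mkLinearMap (quotCompl 𝔮 n) X).restrictScalars T
  let ιY : Y →ₗ[T] LocalizedModule (quotCompl 𝔮 n) Y :=
    (LocalizedModule.mkLinearMap (quotCompl 𝔮 n) Y).restrictScalars T
  have hsq : (uW.restrictScalars T) ∘ₗ ιX = ιY ∘ₗ u := by
    ext x
    show IsLocalizedModule.map (quotCompl 𝔮 n) (LocalizedModule.mkLinearMap (quotCompl 𝔮 n) X)
      (LocalizedModule.mkLinearMap (quotCompl 𝔮 n) Y) u''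
        (LocalizedModule.mkLinearMap (quotCompl 𝔮 n) X x) =
      LocalizedModule.mkLinearMap (quotCompl 𝔮 n) Y (u x)
    rw [IsLocalizedModule.map_apply]
    rfl
  have h0 : (ιX.rTensor N) z = 0 := by
    apply hinj
    rw [map_zero, ← LinearMap.comp_apply, ← LinearMap.rTensor_comp, hsq, LinearMap.rTensor_comp,
      LinearMap.comp_apply, hz, map_zero]
  have hloc : IsLocalizedModule (quotCompl 𝔮 n)
      (AlgebraTensorModule.rTensor T N (LocalizedModule.mkLinearMap (quotCompl 𝔮 n) X)) :=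
    inferInstance
  have h1 : (AlgebraTensorModule.rTensor T N
      (LocalizedModule.mkLinearMap (quotCompl 𝔮 n) X)) z = 0 := h0
  obtain ⟨w, hw⟩ := (IsLocalizedModule.eq_zero_iff (quotCompl 𝔮 n) _).mp h1
  obtain ⟨_, t, ht, rfl⟩ := w
  refine ⟨t, ht, ?_⟩
  have h2 : (Ideal.Quotient.mk (𝔮 ^ (n + 1)) t) • z = 0 := hw
  rw [← h2]
  exact (algebraMap_smul (T ⧸ 𝔮 ^ (n + 1)) t z).symm

end Core

section Main

open Groth.Agent.H76

/-- **Infinitesimal criterion of flatness** over a Noetherian base, tested on one-prime rings. -/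
theorem flat_of_forall_onePrime {T S N : Type u} [CommRing T] [CommRing S] [Algebra T S]
    [IsNoetherianRing T] [IsNoetherianRing S] [AddCommGroup N] [Module S N] [Module T N]
    [IsScalarTower T S N] [Module.Finite S N]
    (H : ∀ (T' : Type u) [CommRing T'] [Algebra T T'], OnePrime T' →
      Module.Flat T' (T' ⊗[T] N)) :
    Module.Flat T N := by
  refine Module.flat_of_isLocalized_maximal S N (fun P _ => LocalizedModule P.primeCompl N)
    (fun P _ => LocalizedModule.mkLinearMap P.primeCompl N) ?_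
  intro 𝔔 h𝔔
  haveI : 𝔔.IsPrime := h𝔔.isPrime
  haveI : (𝔔.comap (algebraMap T S)).IsPrime := Ideal.comap_isPrime _ _
  apply LocalCritPow.flat_of_tinj (R := T) (S := Localization.AtPrime 𝔔)
    (𝔔.comap (algebraMap T S)) ?_ (LocalizedModule 𝔔.primeCompl N)
  · intro n X Y _ _ _ _ u hu hY
    haveI := H (TestRing (𝔔.comap (algebraMap T S)) n) (onePrime_testRing _ n)
    apply LocalCritPow.rTensor_injective_of_lTensor
    rw [FlatLocal.lTensor_localized_injective_iff 𝔔.primeCompl u]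
    intro z hz
    obtain ⟨t, ht, htz⟩ := exists_smul_eq_zero_of_flat_testRing (𝔔.comap (algebraMap T S)) n N
      u hu hY (TensorProduct.comm T N X z) (by
        rw [LinearMap.rTensor_comm, hz, map_zero])
    refine ⟨algebraMap T S t, ht, ?_⟩
    rw [algebraMap_smul]
    apply (TensorProduct.comm T N X).injective
    rw [map_smul, htz, map_zero]
  · rw [IsLocalRing.jacobson_eq_maximalIdeal ⊥ bot_ne_top,
      ← Localization.AtPrime.map_eq_maximalIdeal (I := 𝔔),
      IsScalarTower.algebraMap_eq T S (Localization.AtPrime 𝔔), ← Ideal.map_map]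
    exact Ideal.map_mono Ideal.map_comap_le

end Main

end Groth.Agent.Lib.Helper16.GrFlat
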