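import Mathlib
import Groth.Agent.Lib.Helper16.GrFlat.GrProj
import Groth.Agent.Lib.Helper16.GrFlat.NoethTest
import Groth.Agent.Lib.Helper71.FlatColim
import Groth.Prelude.Def_FlatCA

/-!
# Uniform bound for flatness of the truncations `M / JᵏM` (helper16)

`A₁` Noetherian, `M₁` a finite module over `A₁[x₁,…,xₙ]`, `J₁` an ideal.  There is `K` such that for
every `A₁`-algebra `T`: if `T ⊗ M₁/J₁ᵏM₁` is `T`-flat for all `k ≤ K`, then it is for all `k`
(`exists_uniform_bound`).
-/

set_option autoImplicit false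
universe u
open TensorProduct

namespace Groth.Agent.Lib.Helper16.GrFlat

open Groth.Agent.Lib.Helper47.GrStrat

attribute [local instance] MvPolynomial.algebraMvPolynomial

section

variable {A₁ : Type u} [CommRing A₁] [IsNoetherianRing A₁] {n : ℕ}
  (J₁ : Ideal (MvPolynomial (Fin n) A₁)) (M₁ : Type u) [AddCommGroup M₁]
  [Module (MvPolynomial (Fin n) A₁) M₁] [Module.Finite (MvPolynomial (Fin n) A₁) M₁]
  [Module A₁ M₁] [IsScalarTower A₁ (MvPolynomial (Fin n) A₁) M₁]

/-- Base change of flatness of `T ⊗ X` along `T → T'`. -/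
theorem flat_tensor_of_flat_tensor {A T T' : Type u} [CommRing A] [CommRing T] [CommRing T']
    [Algebra A T] [Algebra T T'] [Algebra A T'] [IsScalarTower A T T']
    (X : Type u) [AddCommGroup X] [Module A X] [Module.Flat T (T ⊗[A] X)] :
    Module.Flat T' (T' ⊗[A] X) :=
  Module.Flat.of_linearEquiv (AlgebraTensorModule.cancelBaseChange A T T' T' X).symm

/-- Uniform bound over Noetherian test rings. -/
theorem exists_uniform_bound_noeth :
    ∃ K : ℕ, ∀ (T : Type u) [CommRing T] [Algebra A₁ T] [IsNoetherianRing T],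
      (∀ k ≤ K, Module.Flat T (T ⊗[A₁] Trunc J₁ M₁ k)) →
        ∀ k, Module.Flat T (T ⊗[A₁] Trunc J₁ M₁ k) := by
  obtain ⟨K, hK⟩ := exists_bound_of_genProj (A₁ := A₁) (fun k => Trunc J₁ M₁ k)
    (genProj_trunc J₁ M₁)
  refine ⟨K, fun T _ _ _ hflat k => ?_⟩
  have e : MvPolynomial (Fin n) T ⊗[MvPolynomial (Fin n) A₁] Trunc J₁ M₁ k ≃ₗ[T]
      T ⊗[A₁] Trunc J₁ M₁ k :=
    Algebra.IsPushout.cancelBaseChange A₁ T (MvPolynomial (Fin n) A₁) (MvPolynomial (Fin n) T)
      (Trunc J₁ M₁ k)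
  haveI : Module.Flat T
      (MvPolynomial (Fin n) T ⊗[MvPolynomial (Fin n) A₁] Trunc J₁ M₁ k) := by
    apply flat_of_forall_onePrime (S := MvPolynomial (Fin n) T)
    intro T' _ _ hT'
    letI : Algebra A₁ T' := ((algebraMap T T').comp (algebraMap A₁ T)).toAlgebra
    haveI : IsScalarTower A₁ T T' := IsScalarTower.of_algebraMap_eq (fun _ => rfl)
    haveI : Module.Flat T' (T' ⊗[A₁] Trunc J₁ M₁ k) := by
      refine hK T' hT' (fun j hj => ?_) k
      haveI := hflat j hj
      exact flat_tensor_of_flat_tensor (A := A₁) (T := T) (T' := T') (Trunc J₁ M₁ j)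
    have e' : T' ⊗[T] (MvPolynomial (Fin n) T ⊗[MvPolynomial (Fin n) A₁] Trunc J₁ M₁ k) ≃ₗ[T']
        T' ⊗[A₁] Trunc J₁ M₁ k :=
      (AlgebraTensorModule.congr (LinearEquiv.refl T' T') e) ≪≫ₗ
        AlgebraTensorModule.cancelBaseChange A₁ T T' T' (Trunc J₁ M₁ k)
    exact Module.Flat.of_linearEquiv e'
  exact Module.Flat.of_linearEquiv e.symm

section Sub

variable (A₁) (T : Type u) [CommRing T] [Algebra A₁ T]

omit [IsNoetherianRing A₁] in
/-- The directed system of finitely generated subalgebras of an algebra. -/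
theorem isDirectedColimitRing_adjoin :
    FlatCA.IsDirectedColimitRing (fun s : Finset T => ↥(Algebra.adjoin A₁ (s : Set T)))
      (fun s s' (h : s ≤ s') =>
        (Subalgebra.inclusion (Algebra.adjoin_mono (Finset.coe_subset.mpr h)) :
          Algebra.adjoin A₁ (s : Set T) →ₐ[A₁] Algebra.adjoin A₁ (s' : Set T)).toRingHom) T := by
  refine ⟨inferInstance, inferInstance, ?_, ?_, ?_, ?_, ?_⟩
  · intro s
    ext x
    rfl
  · intro s s' s'' h h'
    ext x
    rfl
  · intro s s' h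
    ext x
    rfl
  · intro a
    exact ⟨{a}, ⟨a, Algebra.subset_adjoin (by simp)⟩, rfl⟩
  · intro s x hx
    refine ⟨s, le_rfl, ?_⟩
    have h0 : x = 0 := Subtype.ext hx
    rw [h0, map_zero]

end Sub

/-- **Uniform bound** over arbitrary test rings. -/
theorem exists_uniform_bound :
    ∃ K : ℕ, ∀ (T : Type u) [CommRing T] [Algebra A₁ T],
      (∀ k ≤ K, Module.Flat T (T ⊗[A₁] Trunc J₁ M₁ k)) →
        ∀ k, Module.Flat T (T ⊗[A₁] Trunc J₁ M₁ k) := by
  classical
  obtain ⟨K, hK⟩ := exists_uniform_bound_noeth J₁ M₁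
  refine ⟨K, fun T _ _ hflat k => ?_⟩
  haveI hfp : ∀ j, Module.FinitePresentation (MvPolynomial (Fin n) A₁) (Trunc J₁ M₁ j) :=
    fun j => Module.finitePresentation_of_finite _ _
  have hiff := fun j => Groth.Agent.Lib.Helper71.FlatColim.flat_colimit_iff
    (A₀ := A₁) (fun s : Finset T => ↥(Algebra.adjoin A₁ (s : Set T)))
    (fun s s' (h : s ≤ s') =>
      (Subalgebra.inclusion (Algebra.adjoin_mono (Finset.coe_subset.mpr h)) :
        Algebra.adjoin A₁ (s : Set T) →ₐ[A₁] Algebra.adjoin A₁ (s' : Set T))) T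
    (isDirectedColimitRing_adjoin A₁ T) (B₀ := MvPolynomial (Fin n) A₁) (Trunc J₁ M₁ j)
  -- stages for `k ≤ K`
  have hst : ∀ j, ∃ s : Finset T, j ≤ K →
      Module.Flat (Algebra.adjoin A₁ (s : Set T))
        ((Algebra.adjoin A₁ (s : Set T)) ⊗[A₁] Trunc J₁ M₁ j) := by
    intro j
    by_cases hj : j ≤ K
    · obtain ⟨s, hs⟩ := (hiff j).mp (hflat j hj)
      exact ⟨s, fun _ => hs⟩
    · exact ⟨∅, fun h => absurd h hj⟩
  choose st hst using hst
  set s : Finset T := (Finset.range (K + 1)).biUnion st with hs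
  have hsub : ∀ j ≤ K, st j ≤ s := by
    intro j hj
    exact Finset.subset_biUnion_of_mem st (Finset.mem_range.mpr (Nat.lt_succ_of_le hj))
  haveI : Algebra.FiniteType A₁ (Algebra.adjoin A₁ (s : Set T)) :=
    (Subalgebra.fg_iff_finiteType _).mp ⟨s, rfl⟩
  haveI : IsNoetherianRing (Algebra.adjoin A₁ (s : Set T)) :=
    Algebra.FiniteType.isNoetherianRing A₁ _
  have hall : ∀ j, Module.Flat (Algebra.adjoin A₁ (s : Set T))
      ((Algebra.adjoin A₁ (s : Set T)) ⊗[A₁] Trunc J₁ M₁ j) := by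
    refine hK (Algebra.adjoin A₁ (s : Set T)) (fun j hj => ?_)
    haveI := hst j hj
    letI : Algebra (Algebra.adjoin A₁ ((st j : Finset T) : Set T))
        (Algebra.adjoin A₁ (s : Set T)) :=
      (Subalgebra.inclusion (Algebra.adjoin_mono (Finset.coe_subset.mpr (hsub j hj)))).toRingHom.toAlgebra
    haveI : IsScalarTower A₁ (Algebra.adjoin A₁ ((st j : Finset T) : Set T))
        (Algebra.adjoin A₁ (s : Set T)) := IsScalarTower.of_algebraMap_eq (fun _ => rfl)
    exact flat_tensor_of_flat_tensor (A := A₁) (T := Algebra.adjoin A₁ ((st j : Finset T) : Set T))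
      (T' := Algebra.adjoin A₁ (s : Set T)) (Trunc J₁ M₁ j)
  haveI := hall k
  exact flat_tensor_of_flat_tensor (A := A₁) (T := Algebra.adjoin A₁ (s : Set T)) (T' := T)
    (Trunc J₁ M₁ k)

end

end Groth.Agent.Lib.Helper16.GrFlat
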