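import Mathlib
import Groth.Agent.Lib.Helper16.GrFlat.Uniform

/-!
# Uniform bound for flatness of a generically projective family of finite modules (helper16)

`P` Noetherian, `X k` finite `P`-modules forming a generically projective family (`GenProj`).  There
is `K` such that for every `P`-algebra `T`: if `T ⊗ X k` is `T`-flat for all `k ≤ K` then it is for
all `k` (`exists_uniform_bound_family`).
-/

set_option autoImplicit false
universe u
open TensorProduct

namespace Groth.Agent.Lib.Helper16.GrFlat

section

variable {P : Type u} [CommRing P] [IsNoetherianRing P] (X : ℕ → Type u)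
  [∀ k, AddCommGroup (X k)] [∀ k, Module P (X k)] [∀ k, Module.Finite P (X k)]

/-- Uniform bound over Noetherian test rings. -/
theorem exists_uniform_bound_family_noeth (hX : GenProj (A₁ := P) X) :
    ∃ K : ℕ, ∀ (T : Type u) [CommRing T] [Algebra P T] [IsNoetherianRing T],
      (∀ k ≤ K, Module.Flat T (T ⊗[P] X k)) → ∀ k, Module.Flat T (T ⊗[P] X k) := by
  obtain ⟨K, hK⟩ := exists_bound_of_genProj (A₁ := P) X hX
  refine ⟨K, fun T _ _ _ hflat k => ?_⟩
  apply flat_of_forall_onePrime (T := T) (S := T)
  intro T' _ _ hT'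
  letI : Algebra P T' := ((algebraMap T T').comp (algebraMap P T)).toAlgebra
  haveI : IsScalarTower P T T' := IsScalarTower.of_algebraMap_eq (fun _ => rfl)
  haveI : Module.Flat T' (T' ⊗[P] X k) := by
    refine hK T' hT' (fun j hj => ?_) k
    haveI := hflat j hj
    exact flat_tensor_of_flat_tensor (A := P) (T := T) (T' := T') (X j)
  exact Module.Flat.of_linearEquiv (AlgebraTensorModule.cancelBaseChange P T T' T' (X k))

/-- **Uniform bound** over arbitrary test rings. -/
theorem exists_uniform_bound_family (hX : GenProj (A₁ := P) X) :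
    ∃ K : ℕ, ∀ (T : Type u) [CommRing T] [Algebra P T],
      (∀ k ≤ K, Module.Flat T (T ⊗[P] X k)) → ∀ k, Module.Flat T (T ⊗[P] X k) := by
  classical
  obtain ⟨K, hK⟩ := exists_uniform_bound_family_noeth X hX
  refine ⟨K, fun T _ _ hflat k => ?_⟩
  haveI hfp : ∀ j, Module.FinitePresentation P (X j) :=
    fun j => Module.finitePresentation_of_finite _ _
  have hiff := fun j => Groth.Agent.Lib.Helper71.FlatColim.flat_colimit_iff
    (A₀ := P) (fun s : Finset T => ↥(Algebra.adjoin P (s : Set T)))
    (fun s s' (h : s ≤ s') =>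
      (Subalgebra.inclusion (Algebra.adjoin_mono (Finset.coe_subset.mpr h)) :
        Algebra.adjoin P (s : Set T) →ₐ[P] Algebra.adjoin P (s' : Set T))) T
    (isDirectedColimitRing_adjoin P T) (B₀ := P) (X j)
  have hst : ∀ j, ∃ s : Finset T, j ≤ K →
      Module.Flat (Algebra.adjoin P (s : Set T))
        ((Algebra.adjoin P (s : Set T)) ⊗[P] X j) := by
    intro j
    by_cases hj : j ≤ K
    · obtain ⟨s, hs⟩ := (hiff j).mp (hflat j hj)
      exact ⟨s, fun _ => hs⟩
    · exact ⟨∅, fun h => absurd h hj⟩
  choose st hst using hst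
  set s : Finset T := (Finset.range (K + 1)).biUnion st with hs
  have hsub : ∀ j ≤ K, st j ≤ s := by
    intro j hj
    exact Finset.subset_biUnion_of_mem st (Finset.mem_range.mpr (Nat.lt_succ_of_le hj))
  haveI : Algebra.FiniteType P (Algebra.adjoin P (s : Set T)) :=
    (Subalgebra.fg_iff_finiteType _).mp ⟨s, rfl⟩
  haveI : IsNoetherianRing (Algebra.adjoin P (s : Set T)) :=
    Algebra.FiniteType.isNoetherianRing P _
  have hall : ∀ j, Module.Flat (Algebra.adjoin P (s : Set T))
      ((Algebra.adjoin P (s : Set T)) ⊗[P] X j) := by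
    refine hK (Algebra.adjoin P (s : Set T)) (fun j hj => ?_)
    haveI := hst j hj
    letI : Algebra (Algebra.adjoin P ((st j : Finset T) : Set T))
        (Algebra.adjoin P (s : Set T)) :=
      (Subalgebra.inclusion (Algebra.adjoin_mono (Finset.coe_subset.mpr (hsub j hj)))).toRingHom.toAlgebra
    haveI : IsScalarTower P (Algebra.adjoin P ((st j : Finset T) : Set T))
        (Algebra.adjoin P (s : Set T)) := IsScalarTower.of_algebraMap_eq (fun _ => rfl)
    exact flat_tensor_of_flat_tensor (A := P) (T := Algebra.adjoin P ((st j : Finset T) : Set T))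
      (T' := Algebra.adjoin P (s : Set T)) (X j)
  haveI := hall k
  exact flat_tensor_of_flat_tensor (A := P) (T := Algebra.adjoin P (s : Set T)) (T' := T) (X k)

end

end Groth.Agent.Lib.Helper16.GrFlat
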