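import Mathlib
import Groth.Agent.Lib.Helper16.GrFlat.Uniform

/-!
# Uniform bound for truncations of finitely presented data over an arbitrary base (helper16)

`A₀` any ring, `B₀` a finitely presented `A₀`-algebra, `J₀` a finitely generated ideal, `M₀` a
finitely presented `B₀`-module.  There is `K` such that for every `A₀`-algebra `T`: if
`T ⊗ M₀/J₀ᵏM₀` is `T`-flat for `k ≤ K` then it is for all `k` (`exists_uniform_bound_fp`).
The data is presented by polynomial matrices and descended to a finitely generated subring.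
-/

set_option autoImplicit false
universe u
open TensorProduct

namespace Groth.Agent.Lib.Helper16.GrFlat

open Groth.Agent.Lib.Helper47.GrStrat Groth.Agent.Lib.Helper71.FlatColim
  Groth.Agent.H76.FlatKernel Groth.Agent.H76.FlatDescentLocal Groth.Agent.H76.FlatBaseChange

attribute [local instance] MvPolynomial.algebraMvPolynomial

section Present

variable {A₀ : Type u} [CommRing A₀] (B₀ : Type u) [CommRing B₀] [Algebra A₀ B₀]
  [Algebra.FinitePresentation A₀ B₀] (J₀ : Ideal B₀) (hJ₀ : J₀.FG)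
  (M₀ : Type u) [AddCommGroup M₀] [Module B₀ M₀] [Module A₀ M₀] [IsScalarTower A₀ B₀ M₀]
  [Module.FinitePresentation B₀ M₀]

include hJ₀ in
/-- Presentation of the truncations of `M₀` by polynomial matrices. -/
theorem exists_presentation_trunc :
    ∃ (n a b r : ℕ) (c₀ : Fin a → Fin b → MvPolynomial (Fin n) A₀)
      (h₀ : Fin r → MvPolynomial (Fin n) A₀),
      ∀ k : ℕ, Nonempty ((M₀ ⧸ (J₀ ^ k • (⊤ : Submodule B₀ M₀))) ≃ₗ[A₀]
        Trunc (Ideal.span (Set.range h₀)) (Coker c₀) k) := by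
  obtain ⟨n, π, hπ, hker⟩ := Algebra.FinitePresentation.out (R := A₀) (A := B₀)
  letI algPB : Algebra (MvPolynomial (Fin n) A₀) B₀ := π.toRingHom.toAlgebra
  have halg : ∀ p : MvPolynomial (Fin n) A₀, algebraMap (MvPolynomial (Fin n) A₀) B₀ p = π p :=
    fun p => rfl
  haveI : IsScalarTower A₀ (MvPolynomial (Fin n) A₀) B₀ :=
    IsScalarTower.of_algebraMap_eq fun r => (π.commutes r).symm
  letI modPM : Module (MvPolynomial (Fin n) A₀) M₀ := Module.compHom M₀ π.toRingHom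
  have hsm : ∀ (p : MvPolynomial (Fin n) A₀) (m : M₀), p • m = π p • m := fun p m => rfl
  haveI : IsScalarTower (MvPolynomial (Fin n) A₀) B₀ M₀ := ⟨fun p x m => by
    rw [Algebra.smul_def, halg, hsm, mul_smul]⟩
  haveI : IsScalarTower A₀ (MvPolynomial (Fin n) A₀) M₀ := ⟨fun r p m => by
    rw [hsm, hsm, map_smul, smul_assoc]⟩
  haveI : Module.FinitePresentation (MvPolynomial (Fin n) A₀) B₀ := by
    refine Module.finitePresentation_of_surjective
      (Algebra.linearMap (MvPolynomial (Fin n) A₀) B₀) hπ ?_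
    exact hker
  haveI : Module.FinitePresentation (MvPolynomial (Fin n) A₀) M₀ :=
    Module.FinitePresentation.trans (MvPolynomial (Fin n) A₀) M₀ B₀
  obtain ⟨b, K, e, hK⟩ := Module.FinitePresentation.exists_fin (MvPolynomial (Fin n) A₀) M₀
  obtain ⟨a, c₀, rfl⟩ := Submodule.fg_iff_exists_fin_generating_family.mp hK
  obtain ⟨r, j₀, hj₀⟩ := Submodule.fg_iff_exists_fin_generating_family.mp hJ₀
  have hlift : ∀ i, ∃ p : MvPolynomial (Fin n) A₀, π p = j₀ i := fun i => hπ (j₀ i)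
  choose h₀ hh₀ using hlift
  have hJmap : (Ideal.span (Set.range h₀)).map (algebraMap (MvPolynomial (Fin n) A₀) B₀) = J₀ := by
    rw [Ideal.map_span, ← Set.range_comp, ← hj₀]
    congr 2
    funext i
    exact hh₀ i
  refine ⟨n, a, b, r, c₀, h₀, fun k => ?_⟩
  -- the two submodules have the same elements
  have hsub : (J₀ ^ k • (⊤ : Submodule B₀ M₀)).restrictScalars (MvPolynomial (Fin n) A₀) =
      (Ideal.span (Set.range h₀)) ^ k • (⊤ : Submodule (MvPolynomial (Fin n) A₀) M₀) := by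
    rw [← hJmap, ← Ideal.map_pow, Ideal.smul_restrictScalars, Submodule.restrictScalars_top]
  have hsub' : (J₀ ^ k • (⊤ : Submodule B₀ M₀)).restrictScalars A₀ =
      ((Ideal.span (Set.range h₀)) ^ k •
        (⊤ : Submodule (MvPolynomial (Fin n) A₀) M₀)).restrictScalars A₀ := by
    rw [← hsub]
    rfl
  have e1 : (M₀ ⧸ (J₀ ^ k • (⊤ : Submodule B₀ M₀))) ≃ₗ[A₀]
      Trunc (Ideal.span (Set.range h₀)) M₀ k :=
    (Submodule.Quotient.restrictScalarsEquiv A₀ _).symm ≪≫ₗ
      Submodule.quotEquivOfEq _ _ hsub' ≪≫ₗ Submodule.Quotient.restrictScalarsEquiv A₀ _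
  exact ⟨e1 ≪≫ₗ (truncCongr (Ideal.span (Set.range h₀)) e k).restrictScalars A₀⟩

end Present

section Descent

variable {A₀ : Type u} [CommRing A₀] {n a b r : ℕ}

/-- Base change of the truncations of a matrix model along a change of coefficients. -/
theorem nonempty_truncModel_baseChange {A₁ : Type u} [CommRing A₁] [Algebra A₁ A₀]
    (c₁ : Fin a → Fin b → MvPolynomial (Fin n) A₁) (h₁ : Fin r → MvPolynomial (Fin n) A₁)
    (k : ℕ) :
    Nonempty (A₀ ⊗[A₁] Trunc (Ideal.span (Set.range h₁)) (Coker c₁) k ≃ₗ[A₀]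
      Trunc (Ideal.span (Set.range (vmap (algebraMap A₁ A₀) h₁)))
        (Coker (cmap (algebraMap A₁ A₀) c₁)) k) := by
  have hJ : (Ideal.span (Set.range h₁)).map
      (algebraMap (MvPolynomial (Fin n) A₁) (MvPolynomial (Fin n) A₀)) =
      Ideal.span (Set.range (vmap (algebraMap A₁ A₀) h₁)) := by
    rw [Ideal.map_span, ← Set.range_comp]
    rfl
  have i1 := truncBaseChangePoly (A := A₁) (T := A₀) (Ideal.span (Set.range h₁)) (Coker c₁) k
  have i2 : Trunc ((Ideal.span (Set.range h₁)).map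
        (algebraMap (MvPolynomial (Fin n) A₁) (MvPolynomial (Fin n) A₀)))
      (MvPolynomial (Fin n) A₀ ⊗[MvPolynomial (Fin n) A₁] Coker c₁) k ≃ₗ[MvPolynomial (Fin n) A₀]
      Trunc ((Ideal.span (Set.range h₁)).map
        (algebraMap (MvPolynomial (Fin n) A₁) (MvPolynomial (Fin n) A₀)))
      (Coker (cmap (algebraMap A₁ A₀) c₁)) k :=
    truncCongr _ (isBaseChange_cokerMap (P₂ := MvPolynomial (Fin n) A₀) c₁).equiv k
  have i3 : Trunc ((Ideal.span (Set.range h₁)).map
        (algebraMap (MvPolynomial (Fin n) A₁) (MvPolynomial (Fin n) A₀)))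
      (Coker (cmap (algebraMap A₁ A₀) c₁)) k ≃ₗ[MvPolynomial (Fin n) A₀]
      Trunc (Ideal.span (Set.range (vmap (algebraMap A₁ A₀) h₁)))
        (Coker (cmap (algebraMap A₁ A₀) c₁)) k :=
    Submodule.quotEquivOfEq _ _ (by rw [hJ])
  exact ⟨i1 ≪≫ₗ (i2 ≪≫ₗ i3).restrictScalars A₀⟩

/-- Descent of a matrix model to a stage. -/
theorem exists_stage_model (c₀ : Fin a → Fin b → MvPolynomial (Fin n) A₀)
    (h₀ : Fin r → MvPolynomial (Fin n) A₀) :
    ∃ (s : Finset A₀) (c₁ : Fin a → Fin b → MvPolynomial (Fin n) (Stg s))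
      (h₁ : Fin r → MvPolynomial (Fin n) (Stg s)),
      ∀ k, Nonempty (A₀ ⊗[Stg s] Trunc (Ideal.span (Set.range h₁)) (Coker c₁) k ≃ₗ[A₀]
        Trunc (Ideal.span (Set.range h₀)) (Coker c₀) k) := by
  classical
  obtain ⟨s, hsc, hsh⟩ : ∃ s : Finset A₀, (∀ j i, (c₀ j i).coeffs ⊆ s) ∧
      (∀ i, (h₀ i).coeffs ⊆ s) := by
    refine ⟨(Finset.univ.biUnion fun j => Finset.univ.biUnion fun i => (c₀ j i).coeffs) ∪
      (Finset.univ.biUnion fun i => (h₀ i).coeffs), ?_, ?_⟩
    · intro j i x hx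
      apply Finset.mem_union_left
      simp only [Finset.mem_biUnion, Finset.mem_univ, true_and]
      exact ⟨j, i, hx⟩
    · intro i x hx
      apply Finset.mem_union_right
      simp only [Finset.mem_biUnion, Finset.mem_univ, true_and]
      exact ⟨i, hx⟩
  have hc : ∀ j i, ∃ f : MvPolynomial (Fin n) (Stg s),
      MvPolynomial.map (algebraMap (Stg s) A₀) f = c₀ j i := fun j i => exists_map_eq s _ (hsc j i)
  choose c₁ hc₁ using hc
  have hh : ∀ i, ∃ f : MvPolynomial (Fin n) (Stg s),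
      MvPolynomial.map (algebraMap (Stg s) A₀) f = h₀ i := fun i => exists_map_eq s _ (hsh i)
  choose h₁ hh₁ using hh
  have hcc : cmap (algebraMap (Stg s) A₀) c₁ = c₀ := by
    ext j i : 2
    exact hc₁ j i
  have hhh : vmap (algebraMap (Stg s) A₀) h₁ = h₀ := by
    ext i : 1
    exact hh₁ i
  refine ⟨s, c₁, h₁, fun k => ?_⟩
  rw [← hcc, ← hhh]
  exact nonempty_truncModel_baseChange c₁ h₁ k

end Descent

section Main

variable {A₀ : Type u} [CommRing A₀] {B₀ : Type u} [CommRing B₀] [Algebra A₀ B₀]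
  [Algebra.FinitePresentation A₀ B₀] (J₀ : Ideal B₀) (hJ₀ : J₀.FG)
  (M₀ : Type u) [AddCommGroup M₀] [Module B₀ M₀] [Module A₀ M₀] [IsScalarTower A₀ B₀ M₀]
  [Module.FinitePresentation B₀ M₀]

include hJ₀ in
/-- **Uniform bound for finitely presented data over an arbitrary base.** -/
theorem exists_uniform_bound_fp :
    ∃ K : ℕ, ∀ (T : Type u) [CommRing T] [Algebra A₀ T],
      (∀ k ≤ K, Module.Flat T (T ⊗[A₀] (M₀ ⧸ (J₀ ^ k • (⊤ : Submodule B₀ M₀))))) →
        ∀ k, Module.Flat T (T ⊗[A₀] (M₀ ⧸ (J₀ ^ k • (⊤ : Submodule B₀ M₀)))) := by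
  obtain ⟨n, a, b, r, c₀, h₀, he₀⟩ := exists_presentation_trunc (A₀ := A₀) B₀ J₀ hJ₀ M₀
  obtain ⟨s, c₁, h₁, he₁⟩ := exists_stage_model c₀ h₀
  obtain ⟨K, hK⟩ := exists_uniform_bound (A₁ := Stg s) (Ideal.span (Set.range h₁)) (Coker c₁)
  refine ⟨K, fun T _ _ hflat k => ?_⟩
  have hiso : ∀ j, Nonempty (T ⊗[A₀] (M₀ ⧸ (J₀ ^ j • (⊤ : Submodule B₀ M₀))) ≃ₗ[T]
      T ⊗[Stg s] Trunc (Ideal.span (Set.range h₁)) (Coker c₁) j) := by
    intro j
    obtain ⟨e₀⟩ := he₀ j
    obtain ⟨e₁⟩ := he₁ j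
    exact ⟨AlgebraTensorModule.congr (LinearEquiv.refl T T) (e₀ ≪≫ₗ e₁.symm) ≪≫ₗ
      AlgebraTensorModule.cancelBaseChange (Stg s) A₀ T T _⟩
  obtain ⟨ek⟩ := hiso k
  haveI := hK T (fun j hj => by
    obtain ⟨ej⟩ := hiso j
    haveI := hflat j hj
    exact Module.Flat.of_linearEquiv ej.symm) k
  exact Module.Flat.of_linearEquiv ek

end Main

end Groth.Agent.Lib.Helper16.GrFlat
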