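import Mathlib
import Groth.Agent.Lib.Helper16.GrFlat.Stage

/-!
# A Noetherian model with flat truncations (helper16)

`A` any ring, `c₀` a polynomial matrix and `h₀` a vector of polynomials over `A` such that all
truncations `Coker c₀ / (h₀)ᵏ Coker c₀` are flat over `A`.  Then the data descends to a Noetherian
subring `A₂ ⊆ A` over which all truncations are still flat (`exists_flat_model`).
-/

set_option autoImplicit false
universe u
open TensorProduct

namespace Groth.Agent.Lib.Helper16.GrFlat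

open Groth.Agent.Lib.Helper47.GrStrat Groth.Agent.Lib.Helper71.FlatColim
  Groth.Agent.H76.FlatKernel Groth.Agent.H76.FlatDescentLocal Groth.Agent.H76.FlatBaseChange

attribute [local instance] MvPolynomial.algebraMvPolynomial

/-- Descent of a matrix model to a stage, with the defining equations. -/
theorem exists_stage_model' {A₀ : Type u} [CommRing A₀] {n a b r : ℕ}
    (c₀ : Fin a → Fin b → MvPolynomial (Fin n) A₀)
    (h₀ : Fin r → MvPolynomial (Fin n) A₀) :
    ∃ (s : Finset A₀) (c₁ : Fin a → Fin b → MvPolynomial (Fin n) (Stg s))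
      (h₁ : Fin r → MvPolynomial (Fin n) (Stg s)),
      cmap (algebraMap (Stg s) A₀) c₁ = c₀ ∧ vmap (algebraMap (Stg s) A₀) h₁ = h₀ := by
  classical
  obtain ⟨s, hsc, hsh⟩ : ∃ s : Finset A₀, (∀ j i, (c₀ j i).coeffs ⊆ s) ∧
      (∀ i, (h₀ i).coeffs ⊆ s) := by
    refine ⟨(Finset.univ.biUnion fun j => Finset.univ.biUnion fun i => (c₀ j i).coeffs) ∪
      (Finset.univ.biUnion fun i => (h₀ i).coeffs), ?_, ?_⟩
    · intro j i x hx
      apply Finset.mem_union_left
      simp only [Finset.mem_biUnion, Finset.mem_univ, true_and]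
      exact ⟨j, i, hx⟩
    · intro i x hx
      apply Finset.mem_union_right
      simp only [Finset.mem_biUnion, Finset.mem_univ, true_and]
      exact ⟨i, hx⟩
  have hc : ∀ j i, ∃ f : MvPolynomial (Fin n) (Stg s),
      MvPolynomial.map (algebraMap (Stg s) A₀) f = c₀ j i := fun j i => exists_map_eq s _ (hsc j i)
  choose c₁ hc₁ using hc
  have hh : ∀ i, ∃ f : MvPolynomial (Fin n) (Stg s),
      MvPolynomial.map (algebraMap (Stg s) A₀) f = h₀ i := fun i => exists_map_eq s _ (hsh i)
  choose h₁ hh₁ using hh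
  refine ⟨s, c₁, h₁, ?_, ?_⟩
  · ext j i : 2
    exact hc₁ j i
  · ext i : 1
    exact hh₁ i

/-- **A Noetherian model with flat truncations.** -/
theorem exists_flat_model {A : Type u} [CommRing A] {n a b r : ℕ}
    (c₀ : Fin a → Fin b → MvPolynomial (Fin n) A) (h₀ : Fin r → MvPolynomial (Fin n) A)
    (hfl : ∀ k, Module.Flat A (Trunc (Ideal.span (Set.range h₀)) (Coker c₀) k)) :
    ∃ (A₂ : Type u) (_ : CommRing A₂) (_ : Algebra A₂ A) (_ : IsNoetherianRing A₂)
      (c₂ : Fin a → Fin b → MvPolynomial (Fin n) A₂) (h₂ : Fin r → MvPolynomial (Fin n) A₂),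
      cmap (algebraMap A₂ A) c₂ = c₀ ∧ vmap (algebraMap A₂ A) h₂ = h₀ ∧
      ∀ k, Module.Flat A₂ (Trunc (Ideal.span (Set.range h₂)) (Coker c₂) k) := by
  classical
  obtain ⟨s, c₁, h₁, hcc, hhh⟩ := exists_stage_model' c₀ h₀
  obtain ⟨K, hK⟩ := exists_uniform_bound_noeth (A₁ := Stg s) (Ideal.span (Set.range h₁)) (Coker c₁)
  -- flatness over `A` of the base-changed truncations
  have hflA : ∀ k, Module.Flat A (A ⊗[Stg s] Trunc (Ideal.span (Set.range h₁)) (Coker c₁) k) := by
    intro k
    obtain ⟨e⟩ := nonempty_truncModel_baseChange (A₀ := A) c₁ h₁ k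
    rw [hcc, hhh] at e
    haveI := hfl k
    exact Module.Flat.of_linearEquiv e
  haveI hfp : ∀ j, Module.FinitePresentation (MvPolynomial (Fin n) (Stg s))
      (Trunc (Ideal.span (Set.range h₁)) (Coker c₁) j) :=
    fun j => Module.finitePresentation_of_finite _ _
  have hiff := fun j => Groth.Agent.Lib.Helper71.FlatColim.flat_colimit_iff
    (A₀ := Stg s) (fun t : Finset A => ↥(Algebra.adjoin (Stg s) (t : Set A)))
    (fun t t' (h : t ≤ t') =>
      (Subalgebra.inclusion (Algebra.adjoin_mono (Finset.coe_subset.mpr h)) :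
        Algebra.adjoin (Stg s) (t : Set A) →ₐ[Stg s] Algebra.adjoin (Stg s) (t' : Set A))) A
    (isDirectedColimitRing_adjoin (Stg s) A) (B₀ := MvPolynomial (Fin n) (Stg s))
    (Trunc (Ideal.span (Set.range h₁)) (Coker c₁) j)
  have hst : ∀ j, ∃ t : Finset A,
      Module.Flat (Algebra.adjoin (Stg s) (t : Set A))
        ((Algebra.adjoin (Stg s) (t : Set A)) ⊗[Stg s]
          Trunc (Ideal.span (Set.range h₁)) (Coker c₁) j) :=
    fun j => (hiff j).mp (hflA j)
  choose st hst using hst
  set t : Finset A := (Finset.range (K + 1)).biUnion st with ht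
  have hsub : ∀ j ≤ K, st j ≤ t := by
    intro j hj
    exact Finset.subset_biUnion_of_mem st (Finset.mem_range.mpr (Nat.lt_succ_of_le hj))
  haveI : Algebra.FiniteType (Stg s) (Algebra.adjoin (Stg s) (t : Set A)) :=
    (Subalgebra.fg_iff_finiteType _).mp ⟨t, rfl⟩
  haveI hnoeth : IsNoetherianRing (Algebra.adjoin (Stg s) (t : Set A)) :=
    Algebra.FiniteType.isNoetherianRing (Stg s) _
  have hall : ∀ j, Module.Flat (Algebra.adjoin (Stg s) (t : Set A))
      ((Algebra.adjoin (Stg s) (t : Set A)) ⊗[Stg s]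
        Trunc (Ideal.span (Set.range h₁)) (Coker c₁) j) := by
    refine hK (Algebra.adjoin (Stg s) (t : Set A)) (fun j hj => ?_)
    haveI := hst j
    letI : Algebra (Algebra.adjoin (Stg s) ((st j : Finset A) : Set A))
        (Algebra.adjoin (Stg s) (t : Set A)) :=
      (Subalgebra.inclusion (Algebra.adjoin_mono (Finset.coe_subset.mpr (hsub j hj)))).toRingHom.toAlgebra
    haveI : IsScalarTower (Stg s) (Algebra.adjoin (Stg s) ((st j : Finset A) : Set A))
        (Algebra.adjoin (Stg s) (t : Set A)) := IsScalarTower.of_algebraMap_eq (fun _ => rfl)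
    exact flat_tensor_of_flat_tensor (A := Stg s)
      (T := Algebra.adjoin (Stg s) ((st j : Finset A) : Set A))
      (T' := Algebra.adjoin (Stg s) (t : Set A)) (Trunc (Ideal.span (Set.range h₁)) (Coker c₁) j)
  refine ⟨↥(Algebra.adjoin (Stg s) (t : Set A)), inferInstance, inferInstance, hnoeth,
    cmap (algebraMap (Stg s) (Algebra.adjoin (Stg s) (t : Set A))) c₁,
    vmap (algebraMap (Stg s) (Algebra.adjoin (Stg s) (t : Set A))) h₁, ?_, ?_, ?_⟩
  · rw [← hcc]
    ext j i : 2
    rw [cmap_apply, cmap_apply, cmap_apply, MvPolynomial.map_map,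
      ← IsScalarTower.algebraMap_eq]
  · rw [← hhh]
    ext i : 1
    rw [vmap_apply, vmap_apply, vmap_apply, MvPolynomial.map_map,
      ← IsScalarTower.algebraMap_eq]
  · intro k
    obtain ⟨e⟩ := nonempty_truncModel_baseChange (A₀ := ↥(Algebra.adjoin (Stg s) (t : Set A)))
      c₁ h₁ k
    haveI := hall k
    exact Module.Flat.of_linearEquiv e.symm

end Groth.Agent.Lib.Helper16.GrFlat
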