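import Mathlib

/-!
# Openness of the normal flatness locus from a Noetherian model (helper16)

`B` a ring, `J` an ideal, `G k` a family of `B`-modules which is the base change of a family `X k`
of finite modules over a Noetherian ring `P₂`, such that flatness of the base changes of `X k` is
controlled by finitely many `k` (a uniform bound).  Then the locus of `q ∈ V(J)` at which every
`(B/J) ⊗ (G k)_q` is flat over `B/J` is open in `V(J)` (`isOpen_normallyFlat_of_model`).
-/

set_option autoImplicit false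
universe u
open TensorProduct

namespace Groth.Agent.Lib.Helper16.GrFlat

section Loc

variable {B : Type u} [CommRing B] (J : Ideal B) (G : Type u) [AddCommGroup G] [Module B G]

/-- `(B/J) ⊗ G → (B/J) ⊗ G_q` is the localization of the `B/J`-module `(B/J) ⊗ G` at the image of
`q`. -/
theorem isLocalizedModule_baseChange_quotient (qb : PrimeSpectrum (B ⧸ J)) :
    IsLocalizedModule qb.asIdeal.primeCompl
      ((LocalizedModule.mkLinearMap (qb.asIdeal.comap (Ideal.Quotient.mk J)).primeCompl
        G).baseChange (B ⧸ J)) := by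
  set S : Submonoid B := (qb.asIdeal.comap (Ideal.Quotient.mk J)).primeCompl with hS
  set g := LocalizedModule.mkLinearMap S G with hg
  -- the `B`-linear statement
  haveI h1 : IsLocalizedModule S (AlgebraTensorModule.rTensor B (B ⧸ J) g) :=
    IsLocalizedModule.rTensor B S g
  have h2 : (g.baseChange (B ⧸ J)).restrictScalars B =
      (TensorProduct.comm B (LocalizedModule S G) (B ⧸ J)).toLinearMap ∘ₗ
        (AlgebraTensorModule.rTensor B (B ⧸ J) g) ∘ₗ
        (TensorProduct.comm B (B ⧸ J) G).toLinearMap := by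
    apply TensorProduct.ext'
    intro c x
    rfl
  haveI h3 : IsLocalizedModule S ((g.baseChange (B ⧸ J)).restrictScalars B) := by
    rw [h2]
    haveI := IsLocalizedModule.of_linearEquiv_right S (AlgebraTensorModule.rTensor B (B ⧸ J) g)
      (TensorProduct.comm B (B ⧸ J) G)
    exact IsLocalizedModule.of_linearEquiv S _ (TensorProduct.comm B (LocalizedModule S G) (B ⧸ J))
  have h4 : IsLocalizedModule (Algebra.algebraMapSubmonoid (B ⧸ J) S) (g.baseChange (B ⧸ J)) :=
    IsLocalizedModule.of_restrictScalars S _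
  have h5 : Algebra.algebraMapSubmonoid (B ⧸ J) S = qb.asIdeal.primeCompl := by
    ext x
    constructor
    · rintro ⟨b, hb, rfl⟩
      exact hb
    · intro hx
      obtain ⟨b, rfl⟩ := Ideal.Quotient.mk_surjective x
      exact ⟨b, hx, rfl⟩
  rw [← h5]
  exact h4

end Loc

section Core

variable {B : Type u} [CommRing B] (J : Ideal B)
  (G : ℕ → Type u) [∀ k, AddCommGroup (G k)] [∀ k, Module B (G k)]
  {P₂ : Type u} [CommRing P₂] [IsNoetherianRing P₂] [Algebra P₂ B]
  (X : ℕ → Type u) [∀ k, AddCommGroup (X k)] [∀ k, Module P₂ (X k)]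
  [∀ k, Module.Finite P₂ (X k)]

/-- **Openness of the normal flatness locus**, given a Noetherian model of the graded pieces with a
uniform bound. -/
theorem isOpen_normallyFlat_of_model
    (hbound : ∃ K : ℕ, ∀ (T : Type u) [CommRing T] [Algebra P₂ T],
      (∀ k ≤ K, Module.Flat T (T ⊗[P₂] X k)) → ∀ k, Module.Flat T (T ⊗[P₂] X k))
    (eG : ∀ k, Nonempty (B ⊗[P₂] X k ≃ₗ[B] G k)) :
    IsOpen {q : PrimeSpectrum B | J ≤ q.asIdeal → ∀ k : ℕ,
      Module.Flat (B ⧸ J) ((B ⧸ J) ⊗[B] LocalizedModule q.asIdeal.primeCompl (G k))} := by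
  classical
  obtain ⟨K, hK⟩ := hbound
  haveI : ∀ k, Module.FinitePresentation P₂ (X k) :=
    fun k => Module.finitePresentation_of_finite _ _
  haveI hGfp : ∀ k, Module.FinitePresentation B (G k) := fun k => by
    obtain ⟨e⟩ := eG k
    exact Module.FinitePresentation.of_equiv e
  let V : Set (PrimeSpectrum (B ⧸ J)) :=
    ⋂ k ∈ Finset.range (K + 1), Module.freeLocus (B ⧸ J) ((B ⧸ J) ⊗[B] G k)
  have hV : IsOpen V := isOpen_biInter_finset (fun k _ => Module.isOpen_freeLocus)
  have key : ∀ qb : PrimeSpectrum (B ⧸ J),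
      (∀ k, Module.Flat (B ⧸ J) ((B ⧸ J) ⊗[B]
        LocalizedModule (qb.asIdeal.comap (Ideal.Quotient.mk J)).primeCompl (G k))) ↔ qb ∈ V := by
    intro qb
    have E1 : ∀ k, Nonempty (((B ⧸ J) ⊗[B]
        LocalizedModule (qb.asIdeal.comap (Ideal.Quotient.mk J)).primeCompl (G k)) ≃ₗ[B ⧸ J]
        (Localization.AtPrime qb.asIdeal) ⊗[B ⧸ J] ((B ⧸ J) ⊗[B] G k)) := fun k => by
      haveI := isLocalizedModule_baseChange_quotient J (G k) qb
      exact ⟨IsLocalizedModule.linearEquiv qb.asIdeal.primeCompl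
        ((LocalizedModule.mkLinearMap (qb.asIdeal.comap (Ideal.Quotient.mk J)).primeCompl
          (G k)).baseChange (B ⧸ J))
        (TensorProduct.mk (B ⧸ J) (Localization.AtPrime qb.asIdeal) ((B ⧸ J) ⊗[B] G k) 1)⟩
    have E2 : ∀ k, Nonempty ((Localization.AtPrime qb.asIdeal) ⊗[B ⧸ J] ((B ⧸ J) ⊗[B] G k)
        ≃ₗ[Localization.AtPrime qb.asIdeal] (Localization.AtPrime qb.asIdeal) ⊗[P₂] X k) :=
      fun k => by
      obtain ⟨e⟩ := eG k
      exact ⟨AlgebraTensorModule.cancelBaseChange B (B ⧸ J) (Localization.AtPrime qb.asIdeal)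
          (Localization.AtPrime qb.asIdeal) (G k) ≪≫ₗ
        AlgebraTensorModule.congr (LinearEquiv.refl (Localization.AtPrime qb.asIdeal)
          (Localization.AtPrime qb.asIdeal)) e.symm ≪≫ₗ
        AlgebraTensorModule.cancelBaseChange P₂ B (Localization.AtPrime qb.asIdeal)
          (Localization.AtPrime qb.asIdeal) (X k)⟩
    constructor
    · intro hfl
      simp only [V, Set.mem_iInter]
      intro k _
      rw [Module.mem_freeLocus_iff_tensor qb (Localization.AtPrime qb.asIdeal)]
      obtain ⟨e1⟩ := E1 k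
      haveI : Module.Flat (B ⧸ J)
          ((Localization.AtPrime qb.asIdeal) ⊗[B ⧸ J] ((B ⧸ J) ⊗[B] G k)) := by
        haveI := hfl k
        exact Module.Flat.of_linearEquiv e1.symm
      haveI : Module.Flat (Localization.AtPrime qb.asIdeal)
          ((Localization.AtPrime qb.asIdeal) ⊗[B ⧸ J] ((B ⧸ J) ⊗[B] G k)) := by
        haveI := isLocalizedModule_id qb.asIdeal.primeCompl
          ((Localization.AtPrime qb.asIdeal) ⊗[B ⧸ J] ((B ⧸ J) ⊗[B] G k))
          (Localization.AtPrime qb.asIdeal)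
        exact Module.Flat.of_isLocalizedModule
          (M := (Localization.AtPrime qb.asIdeal) ⊗[B ⧸ J] ((B ⧸ J) ⊗[B] G k))
          (Localization.AtPrime qb.asIdeal)
          qb.asIdeal.primeCompl (LinearMap.id : _ →ₗ[B ⧸ J] _)
      exact Module.free_of_flat_of_isLocalRing (R := Localization.AtPrime qb.asIdeal)
        (P := (Localization.AtPrime qb.asIdeal) ⊗[B ⧸ J] ((B ⧸ J) ⊗[B] G k))
    · intro hqb k
      simp only [V, Set.mem_iInter] at hqb
      have hfree : ∀ j ≤ K, Module.Flat (Localization.AtPrime qb.asIdeal)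
          ((Localization.AtPrime qb.asIdeal) ⊗[P₂] X j) := fun j hj => by
        have := hqb j (Finset.mem_range.mpr (Nat.lt_succ_of_le hj))
        rw [Module.mem_freeLocus_iff_tensor qb (Localization.AtPrime qb.asIdeal)] at this
        obtain ⟨e2⟩ := E2 j
        haveI := this
        exact Module.Flat.of_linearEquiv e2.symm
      haveI := hK (Localization.AtPrime qb.asIdeal) hfree k
      obtain ⟨e2⟩ := E2 k
      obtain ⟨e1⟩ := E1 k
      haveI : Module.Flat (Localization.AtPrime qb.asIdeal)
          ((Localization.AtPrime qb.asIdeal) ⊗[B ⧸ J] ((B ⧸ J) ⊗[B] G k)) :=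
        Module.Flat.of_linearEquiv e2
      haveI : Module.Flat (B ⧸ J)
          ((Localization.AtPrime qb.asIdeal) ⊗[B ⧸ J] ((B ⧸ J) ⊗[B] G k)) :=
        Module.Flat.trans (B ⧸ J) (Localization.AtPrime qb.asIdeal) _
      exact Module.Flat.of_linearEquiv e1
  -- topology
  rw [← isClosed_compl_iff]
  have hcl : IsClosed (PrimeSpectrum.comap (Ideal.Quotient.mk J) '' Vᶜ) :=
    (PrimeSpectrum.isClosedEmbedding_comap_of_surjective _ _
      Ideal.Quotient.mk_surjective).isClosedMap _ hV.isClosed_compl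
  convert hcl using 1
  ext q
  simp only [Set.mem_compl_iff, Set.mem_ofPred_eq, Set.mem_image, Classical.not_imp]
  constructor
  · rintro ⟨hJq, hnot⟩
    have hq : q ∈ Set.range (PrimeSpectrum.comap (Ideal.Quotient.mk J)) := by
      rw [_root_.range_comap_of_surjective _ _ Ideal.Quotient.mk_surjective, Ideal.mk_ker]
      exact hJq
    obtain ⟨qb, rfl⟩ := hq
    exact ⟨qb, fun h => hnot ((key qb).mpr h), rfl⟩
  · rintro ⟨qb, hqb, rfl⟩
    refine ⟨?_, fun h => hqb ((key qb).mp h)⟩
    intro x hx
    show Ideal.Quotient.mk J x ∈ qb.asIdeal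
    rw [Ideal.Quotient.eq_zero_iff_mem.mpr hx]
    exact zero_mem _

end Core

end Groth.Agent.Lib.Helper16.GrFlat
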