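import Mathlib
import Groth.Agent.Lib.Helper16.GrFlat.TruncBC

/-!
# Base change of the graded pieces `JᵏN / Jᵏ⁺¹N` (helper16)

The natural map `R' ⊗ JᵏN → (JR')ᵏ(R' ⊗ N)` is always surjective; when it is injective, the piece
`JᵏN / Jᵏ⁺¹N` commutes with the base change `R → R'` (`nonempty_pieceBaseChange`).  This holds in
a pushout square `R → S`, `R → A`, `B = S ⊗ A` as soon as `N / JᵏN` is flat over `R`
(`nonempty_pieceBaseChange_of_flat`).
-/

set_option autoImplicit false
universe u
open TensorProduct

namespace Groth.Agent.Lib.Helper16.GrFlat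

open Groth.Agent.Lib.Helper47.GrStrat

section Congr

variable {P : Type u} [CommRing P] (J : Ideal P) {M M' : Type u} [AddCommGroup M] [Module P M]
  [AddCommGroup M'] [Module P M']

/-- Pieces of isomorphic modules are isomorphic. -/
noncomputable def pieceCongr (e : M ≃ₗ[P] M') (k : ℕ) : Piece J M k ≃ₗ[P] Piece J M' k :=
  Submodule.Quotient.equiv _ _
    (e.submoduleMap (J ^ k • (⊤ : Submodule P M)) ≪≫ₗ LinearEquiv.ofEq _ _ (by
      rw [Submodule.map_smul'', Submodule.map_top, LinearEquiv.range]))
    (by rw [Submodule.map_smul'', Submodule.map_top, LinearEquiv.range])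

end Congr

section BC

variable {R R' : Type u} [CommRing R] [CommRing R'] [Algebra R R'] (I : Ideal R)
  {N : Type u} [AddCommGroup N] [Module R N]

/-- Base change of submodules commutes with multiplication by an ideal. -/
theorem baseChange_smul_eq (p : Submodule R N) :
    (I • p).baseChange R' = I.map (algebraMap R R') • p.baseChange R' := by
  apply le_antisymm
  · have key : ∀ y ∈ I • p, ∀ r : R', r ⊗ₜ[R] y ∈ I.map (algebraMap R R') • p.baseChange R' := by
      intro y hy
      refine Submodule.smul_induction_on hy ?_ ?_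
      · intro a ha m hm r
        rw [TensorProduct.tmul_smul, ← algebraMap_smul R' a (r ⊗ₜ[R] m)]
        exact Submodule.smul_mem_smul (Ideal.mem_map_of_mem _ ha)
          (Submodule.tmul_mem_baseChange_of_mem r hm)
      · intro x y hx hy r
        rw [TensorProduct.tmul_add]
        exact add_mem (hx r) (hy r)
    rintro _ ⟨x, rfl⟩
    induction x using TensorProduct.induction_on with
    | zero => rw [map_zero]; exact zero_mem _
    | tmul r y => exact key y.1 y.2 r
    | add x y hx hy => rw [map_add]; exact add_mem hx hy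
  · rw [Submodule.smul_le]
    intro a' ha' y hy
    obtain ⟨x, rfl⟩ := hy
    refine Submodule.span_induction
      (p := fun a' _ => a' • (p.subtype.baseChange R') x ∈ (I • p).baseChange R') ?_ ?_ ?_ ?_ ha'
    · rintro _ ⟨a, ha, rfl⟩
      induction x using TensorProduct.induction_on with
      | zero => rw [map_zero, smul_zero]; exact zero_mem _
      | tmul r m =>
        rw [LinearMap.baseChange_tmul, algebraMap_smul, ← TensorProduct.tmul_smul]
        exact Submodule.tmul_mem_baseChange_of_mem r (Submodule.smul_mem_smul ha m.2)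
      | add x y hx hy => rw [map_add, smul_add]; exact add_mem hx hy
    · rw [zero_smul]; exact zero_mem _
    · intro a b _ _ ha hb
      rw [add_smul]; exact add_mem ha hb
    · intro c a _ ha
      rw [smul_eq_mul, mul_smul]
      exact Submodule.smul_mem _ c ha

theorem baseChange_pow_smul_top (k : ℕ) :
    ((I ^ k • ⊤ : Submodule R N)).baseChange R' =
      (I.map (algebraMap R R')) ^ k • (⊤ : Submodule R' (R' ⊗[R] N)) := by
  rw [baseChange_smul_eq, Ideal.map_pow, Submodule.baseChange_top]

/-- If `R' ⊗ JᵏN → R' ⊗ N` is injective, the piece `JᵏN / Jᵏ⁺¹N` commutes with base change. -/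
theorem nonempty_pieceBaseChange (k : ℕ)
    (hinj : Function.Injective ((I ^ k • (⊤ : Submodule R N)).subtype.baseChange R')) :
    Nonempty (R' ⊗[R] Piece I N k ≃ₗ[R']
      Piece (I.map (algebraMap R R')) (R' ⊗[R] N) k) := by
  have hinj' : Function.Injective ((I ^ k • (⊤ : Submodule R N)).toBaseChange R') := by
    intro x y hxy
    apply hinj
    exact congrArg Subtype.val hxy
  let ψ₀ : R' ⊗[R] ↥(I ^ k • (⊤ : Submodule R N)) ≃ₗ[R']
      ↥((I ^ k • (⊤ : Submodule R N)).baseChange R') :=
    LinearEquiv.ofBijective _ ⟨hinj', Submodule.toBaseChange_surjective R' _⟩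
  let ψ : R' ⊗[R] ↥(I ^ k • (⊤ : Submodule R N)) ≃ₗ[R']
      ↥((I.map (algebraMap R R')) ^ k • (⊤ : Submodule R' (R' ⊗[R] N))) :=
    ψ₀ ≪≫ₗ LinearEquiv.ofEq _ _ (baseChange_pow_smul_top I k)
  let e1 : R' ⊗[R] Piece I N k ≃ₗ[R']
      (R' ⊗[R] ↥(I ^ k • (⊤ : Submodule R N))) ⧸
        (I.map (algebraMap R R') • (⊤ : Submodule R' (R' ⊗[R] ↥(I ^ k • (⊤ : Submodule R N))))) :=
    (TensorProduct.tensorQuotMapSMulEquivTensorQuot ↥(I ^ k • (⊤ : Submodule R N)) R' I).symm
  let e2 : ((R' ⊗[R] ↥(I ^ k • (⊤ : Submodule R N))) ⧸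
        (I.map (algebraMap R R') • (⊤ : Submodule R' (R' ⊗[R] ↥(I ^ k • (⊤ : Submodule R N)))))) ≃ₗ[R']
      Piece (I.map (algebraMap R R')) (R' ⊗[R] N) k :=
    Submodule.Quotient.equiv _ _ ψ (by
      rw [Submodule.map_smul'', Submodule.map_top, LinearEquiv.range])
  exact ⟨e1 ≪≫ₗ e2⟩

end BC

section Pushout

/-- In a pushout square, base change of a submodule inclusion with `R`-flat cokernel stays
injective. -/
theorem baseChange_subtype_injective_of_flat (R S : Type u) {A B : Type u}
    [CommRing R] [CommRing S] [CommRing A] [CommRing B]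
    [Algebra R S] [Algebra R A] [Algebra S B] [Algebra A B] [Algebra R B]
    [IsScalarTower R A B] [IsScalarTower R S B] [Algebra.IsPushout R S A B]
    {M : Type u} [AddCommGroup M] [Module A M] [Module R M] [IsScalarTower R A M]
    (L : Submodule A M) [Module.Flat R (M ⧸ L)] :
    Function.Injective (L.subtype.baseChange B) := by
  have h1 : Function.Injective ((L.subtype.restrictScalars R).lTensor S) :=
    LinearMap.lTensor_injective_of_exact_of_flat (L.mkQ.restrictScalars R)
      (Submodule.mkQ_surjective L) (L.subtype.restrictScalars R) L.injective_subtype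
      (by
        intro x
        show L.mkQ x = 0 ↔ x ∈ Set.range L.subtype
        rw [Submodule.mkQ_apply, Submodule.Quotient.mk_eq_zero]
        constructor
        · intro hx
          exact ⟨⟨x, hx⟩, rfl⟩
        · rintro ⟨y, rfl⟩
          exact y.2) S
  have hnat : ∀ y : S ⊗[R] ↥L, (L.subtype.baseChange B)
      ((Algebra.IsPushout.cancelBaseChange R S A B ↥L).symm y) =
      (Algebra.IsPushout.cancelBaseChange R S A B M).symm
        ((L.subtype.restrictScalars R).lTensor S y) := by
    intro y
    induction y using TensorProduct.induction_on with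
    | zero => simp
    | tmul s l =>
      rw [Algebra.IsPushout.cancelBaseChange_symm_tmul, LinearMap.baseChange_tmul,
        LinearMap.lTensor_tmul, Algebra.IsPushout.cancelBaseChange_symm_tmul]
      rfl
    | add x y hx hy => simp only [map_add, hx, hy]
  intro x x' hxx'
  obtain ⟨y, rfl⟩ := (Algebra.IsPushout.cancelBaseChange R S A B ↥L).symm.surjective x
  obtain ⟨y', rfl⟩ := (Algebra.IsPushout.cancelBaseChange R S A B ↥L).symm.surjective x'
  rw [hnat, hnat] at hxx'
  rw [h1 ((Algebra.IsPushout.cancelBaseChange R S A B M).symm.injective hxx')]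

/-- In a pushout square, the piece `JᵏM / Jᵏ⁺¹M` commutes with base change as soon as `M / JᵏM` is
flat over the base. -/
theorem nonempty_pieceBaseChange_of_flat (R S : Type u) {A B : Type u}
    [CommRing R] [CommRing S] [CommRing A] [CommRing B]
    [Algebra R S] [Algebra R A] [Algebra S B] [Algebra A B] [Algebra R B]
    [IsScalarTower R A B] [IsScalarTower R S B] [Algebra.IsPushout R S A B]
    {M : Type u} [AddCommGroup M] [Module A M] [Module R M] [IsScalarTower R A M]
    (I : Ideal A) (k : ℕ) [Module.Flat R (Trunc I M k)] :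
    Nonempty (B ⊗[A] Piece I M k ≃ₗ[B] Piece (I.map (algebraMap A B)) (B ⊗[A] M) k) :=
  nonempty_pieceBaseChange I k
    (baseChange_subtype_injective_of_flat R S (I ^ k • (⊤ : Submodule A M)))

end Pushout

end Groth.Agent.Lib.Helper16.GrFlat
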