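import Mathlib
import Groth.Agent.Lib.Helper16.GrFlat.GrProj
import Groth.Agent.Lib.Helper16.GrFlat.FamilyBound

/-!
# Generic projectivity of the graded pieces `JᵏM / Jᵏ⁺¹M` over the base ring itself (helper16)

`P` Noetherian, `M` a finite `P`-module, `J` an ideal.  The family of `P`-modules
`Piece J M k = JᵏM / Jᵏ⁺¹M` is generically projective (`genProj_piece`), hence admits a uniform
bound for flatness of its base changes (`exists_uniform_bound_piece`).
-/

set_option autoImplicit false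
universe u
open TensorProduct

namespace Groth.Agent.Lib.Helper16.GrFlat

open Groth.Agent.Lib.Helper47.GrStrat

section

variable {P : Type u} [CommRing P] [IsNoetherianRing P] (J : Ideal P) (M : Type u)
  [AddCommGroup M] [Module P M] [Module.Finite P M]

open AssocGr Groth.Agent.Lib.Helper47.GrFinite in
/-- Generic freeness of `gr_J(M) / 𝔭 gr_J(M)` over the domain `P / 𝔭`, giving projectivity of the
localised pieces modulo `𝔭`. -/
theorem exists_projective_localized_piece_mod (𝔭 : Ideal P) [𝔭.IsPrime] (h : P ⧸ 𝔭)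
    (hh : h ≠ 0) :
    ∃ f : P ⧸ 𝔭, h ∣ f ∧ f ≠ 0 ∧ ∀ k : ℕ,
      Module.Projective (Localization.Away f)
        (LocalizedModule (Submonoid.powers f)
          (Piece J M k ⧸ (𝔭 • (⊤ : Submodule P (Piece J M k))))) := by
  classical
  let F := Rees.powFilt J M
  have hN : ∀ i, (F.N i).FG := fun i => IsNoetherian.noetherian _
  have hF : F.Stable := Ideal.stableFiltration_stable J ⊤
  let 𝒢 := GrRing (FiltBl.IdealFiltration.adic J)
  let G := GrMod F
  haveI hft1 : Algebra.FiniteType P 𝒢 := finiteType_grRing_base J (IsNoetherian.noetherian J)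
  haveI : Module.Finite 𝒢 G := finite_grMod F hN hF
  let 𝔓 : Ideal 𝒢 := 𝔭.map (algebraMap P 𝒢)
  let N' := G ⧸ (𝔓 • (⊤ : Submodule 𝒢 G))
  haveI : Algebra.FiniteType P (𝒢 ⧸ 𝔓) :=
    Algebra.FiniteType.of_surjective (Ideal.Quotient.mkₐ P 𝔓) (Ideal.Quotient.mkₐ_surjective P 𝔓)
  haveI : Algebra.FiniteType (P ⧸ 𝔭) (𝒢 ⧸ 𝔓) :=
    Algebra.FiniteType.of_restrictScalars_finiteType P (P ⧸ 𝔭) _
  letI : Module (P ⧸ 𝔭) N' := Module.compHom N' (algebraMap (P ⧸ 𝔭) (𝒢 ⧸ 𝔓))
  haveI : IsScalarTower (P ⧸ 𝔭) (𝒢 ⧸ 𝔓) N' := IsScalarTower.of_compHom _ _ _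
  haveI : Module.Finite 𝒢 N' := inferInstance
  haveI : Module.Finite (𝒢 ⧸ 𝔓) N' := Module.Finite.of_restrictScalars_finite 𝒢 (𝒢 ⧸ 𝔓) N'
  haveI : IsScalarTower P (P ⧸ 𝔭) N' := IsScalarTower.of_algebraMap_smul (fun a x => by
    show algebraMap (P ⧸ 𝔭) (𝒢 ⧸ 𝔓) (algebraMap P (P ⧸ 𝔭) a) • x = a • x
    have h1 : algebraMap (P ⧸ 𝔭) (𝒢 ⧸ 𝔓) (algebraMap P (P ⧸ 𝔭) a) =
        algebraMap 𝒢 (𝒢 ⧸ 𝔓) (algebraMap P 𝒢 a) := rfl
    rw [h1, algebraMap_smul, algebraMap_smul])
  obtain ⟨f, hhf, hf0, hfree, -⟩ := Groth.Agent.Lib.Helper91.generic_freeness_reduced_aux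
    (R := P ⧸ 𝔭) (S := 𝒢 ⧸ 𝔓) (M := N') h hh
  refine ⟨f, hhf, hf0, fun k => ?_⟩
  haveI : Module.Free (Localization.Away f) (LocalizedModule (Submonoid.powers f) N') := hfree
  -- the retract
  let e := Groth.Agent.S16455.PhiEquiv F (Groth.Agent.S16455.powFilt_succ J M)
  let i0 : Piece J M k →ₗ[P ⧸ J] G :=
    e.toLinearMap ∘ₗ DirectSum.lof (P ⧸ J) ℕ (fun n => Groth.Agent.S16455.P F n) k
  let r0 : G →ₗ[P ⧸ J] Piece J M k :=
    DirectSum.component (P ⧸ J) ℕ (fun n => Groth.Agent.S16455.P F n) k ∘ₗ e.symm.toLinearMap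
  have hri0 : ∀ x, r0 (i0 x) = x := by
    intro x
    simp only [i0, r0, LinearMap.comp_apply, LinearEquiv.coe_coe, LinearEquiv.symm_apply_apply]
    exact DirectSum.component.lof_self (P ⧸ J) (M := fun n => Groth.Agent.S16455.P F n) k x
  let i1 : Piece J M k →ₗ[P] G := i0.restrictScalars P
  let r1 : G →ₗ[P] Piece J M k := r0.restrictScalars P
  -- the maps on the quotients modulo `𝔭`
  have hsub : (𝔓 • (⊤ : Submodule 𝒢 G)).restrictScalars P = 𝔭 • (⊤ : Submodule P G) := by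
    rw [Ideal.smul_restrictScalars, Submodule.restrictScalars_top]
  let iq : (Piece J M k ⧸ (𝔭 • (⊤ : Submodule P (Piece J M k)))) →ₗ[P] N' :=
    Submodule.liftQ _ (((𝔓 • (⊤ : Submodule 𝒢 G)).mkQ.restrictScalars P) ∘ₗ i1) (by
      intro x hx
      rw [LinearMap.mem_ker]
      refine Submodule.smul_induction_on hx ?_ ?_
      · intro a ha y _
        rw [map_smul]
        show (𝔓 • (⊤ : Submodule 𝒢 G)).mkQ (a • i1 y) = 0
        rw [Submodule.mkQ_apply, Submodule.Quotient.mk_eq_zero, ← algebraMap_smul 𝒢 a (i1 y)]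
        exact Submodule.smul_mem_smul (Ideal.mem_map_of_mem _ ha) Submodule.mem_top
      · intro x y hx hy
        rw [map_add, hx, hy, add_zero])
  let rq0 : (G ⧸ (𝔓 • (⊤ : Submodule 𝒢 G)).restrictScalars P) →ₗ[P]
      (Piece J M k ⧸ (𝔭 • (⊤ : Submodule P (Piece J M k)))) :=
    Submodule.liftQ _ ((𝔭 • (⊤ : Submodule P (Piece J M k))).mkQ ∘ₗ r1) (by
      rw [hsub]
      intro x hx
      rw [LinearMap.mem_ker]
      refine Submodule.smul_induction_on hx ?_ ?_
      · intro a ha y _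
        rw [map_smul, LinearMap.comp_apply, Submodule.mkQ_apply, ← Submodule.Quotient.mk_smul,
          Submodule.Quotient.mk_eq_zero]
        exact Submodule.smul_mem_smul ha Submodule.mem_top
      · intro x y hx hy
        rw [map_add, hx, hy, add_zero])
  let rq : N' →ₗ[P] (Piece J M k ⧸ (𝔭 • (⊤ : Submodule P (Piece J M k)))) :=
    rq0 ∘ₗ (Submodule.Quotient.restrictScalarsEquiv P (𝔓 • (⊤ : Submodule 𝒢 G))).symm.toLinearMap
  have hrq : ∀ x, rq (iq x) = x := by
    intro x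
    obtain ⟨y, rfl⟩ := Submodule.Quotient.mk_surjective _ x
    show Submodule.Quotient.mk (r1 (i1 y)) = Submodule.Quotient.mk y
    rw [show r1 (i1 y) = y from hri0 y]
  let i2 : (Piece J M k ⧸ (𝔭 • (⊤ : Submodule P (Piece J M k)))) →ₗ[P ⧸ 𝔭] N' :=
    iq.extendScalarsOfSurjective Ideal.Quotient.mk_surjective
  let r2 : N' →ₗ[P ⧸ 𝔭] (Piece J M k ⧸ (𝔭 • (⊤ : Submodule P (Piece J M k)))) :=
    rq.extendScalarsOfSurjective Ideal.Quotient.mk_surjective
  have hri2 : r2.comp i2 = LinearMap.id := LinearMap.ext hrq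
  let iL := IsLocalizedModule.mapExtendScalars (Submonoid.powers f)
    (LocalizedModule.mkLinearMap (Submonoid.powers f)
      (Piece J M k ⧸ (𝔭 • (⊤ : Submodule P (Piece J M k)))))
    (LocalizedModule.mkLinearMap (Submonoid.powers f) N') (Localization.Away f) i2
  let rL := IsLocalizedModule.mapExtendScalars (Submonoid.powers f)
    (LocalizedModule.mkLinearMap (Submonoid.powers f) N')
    (LocalizedModule.mkLinearMap (Submonoid.powers f)
      (Piece J M k ⧸ (𝔭 • (⊤ : Submodule P (Piece J M k))))) (Localization.Away f) r2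
  have hL : rL.comp iL = LinearMap.id := by
    apply LinearMap.restrictScalars_injective (P ⧸ 𝔭)
    show (IsLocalizedModule.map (Submonoid.powers f) _ _ r2).comp
      (IsLocalizedModule.map (Submonoid.powers f) _ _ i2) = LinearMap.id
    rw [← IsLocalizedModule.map_comp', hri2, IsLocalizedModule.map_id]
  exact Module.Projective.of_split iL rL hL

/-- **Generic projectivity** of the graded pieces of a finite module over a Noetherian ring. -/
theorem genProj_piece : GenProj (A₁ := P) (fun k => Piece J M k) := by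
  intro 𝔭 _ h hh
  have hh' : (Ideal.Quotient.mk 𝔭 h) ≠ 0 := fun h0 => hh (Ideal.Quotient.eq_zero_iff_mem.mp h0)
  obtain ⟨f, hhf, hf0, hproj⟩ := exists_projective_localized_piece_mod J M 𝔭
    (Ideal.Quotient.mk 𝔭 h) hh'
  obtain ⟨qb, rfl⟩ := hhf
  obtain ⟨q, rfl⟩ := Ideal.Quotient.mk_surjective qb
  refine ⟨h * q, ?_, dvd_mul_right h q, ?_⟩
  · intro hmem
    apply hf0
    rw [← map_mul]
    exact Ideal.Quotient.eq_zero_iff_mem.mpr hmem
  · intro Lq _ _ h𝔭Lq hgLq k
    let φ : P ⧸ 𝔭 →+* Lq := Ideal.Quotient.lift 𝔭 (algebraMap P Lq) (fun a ha => by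
      have : algebraMap P Lq a ∈ 𝔭.map (algebraMap P Lq) := Ideal.mem_map_of_mem _ ha
      rw [h𝔭Lq] at this
      exact this)
    letI : Algebra (P ⧸ 𝔭) Lq := φ.toAlgebra
    haveI : IsScalarTower P (P ⧸ 𝔭) Lq := IsScalarTower.of_algebraMap_eq (fun a => rfl)
    have hfLq : IsUnit (algebraMap (P ⧸ 𝔭) Lq
        (Ideal.Quotient.mk 𝔭 h * Ideal.Quotient.mk 𝔭 q)) := by
      rw [← map_mul]
      exact hgLq
    let ψ : Localization.Away (Ideal.Quotient.mk 𝔭 h * Ideal.Quotient.mk 𝔭 q) →+* Lq :=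
      IsLocalization.Away.lift (Ideal.Quotient.mk 𝔭 h * Ideal.Quotient.mk 𝔭 q) hfLq
    letI : Algebra (Localization.Away (Ideal.Quotient.mk 𝔭 h * Ideal.Quotient.mk 𝔭 q)) Lq :=
      ψ.toAlgebra
    haveI : IsScalarTower (P ⧸ 𝔭)
        (Localization.Away (Ideal.Quotient.mk 𝔭 h * Ideal.Quotient.mk 𝔭 q)) Lq :=
      IsScalarTower.of_algebraMap_eq (fun a => (IsLocalization.Away.lift_eq _ hfLq a).symm)
    haveI := hproj k
    have hbc : IsBaseChange (Localization.Away (Ideal.Quotient.mk 𝔭 h * Ideal.Quotient.mk 𝔭 q))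
        (LocalizedModule.mkLinearMap
          (Submonoid.powers (Ideal.Quotient.mk 𝔭 h * Ideal.Quotient.mk 𝔭 q))
          (Piece J M k ⧸ (𝔭 • (⊤ : Submodule P (Piece J M k))))) :=
      (isLocalizedModule_iff_isBaseChange
        (Submonoid.powers (Ideal.Quotient.mk 𝔭 h * Ideal.Quotient.mk 𝔭 q)) _ _).mp inferInstance
    have eq : (P ⧸ 𝔭) ⊗[P] Piece J M k ≃ₗ[P ⧸ 𝔭]
        (Piece J M k ⧸ (𝔭 • (⊤ : Submodule P (Piece J M k)))) :=
      (TensorProduct.quotTensorEquivQuotSMul (Piece J M k) 𝔭).extendScalarsOfSurjective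
        Ideal.Quotient.mk_surjective
    exact projective_of_tower (A := P) (R := P ⧸ 𝔭)
      (Rf := Localization.Away (Ideal.Quotient.mk 𝔭 h * Ideal.Quotient.mk 𝔭 q)) (Lq := Lq)
      (Piece J M k) _
      ((AlgebraTensorModule.congr (LinearEquiv.refl _ _) eq) ≪≫ₗ hbc.equiv)

/-- **Uniform bound** for flatness of the base changes of the graded pieces. -/
theorem exists_uniform_bound_piece :
    ∃ K : ℕ, ∀ (T : Type u) [CommRing T] [Algebra P T],
      (∀ k ≤ K, Module.Flat T (T ⊗[P] Piece J M k)) → ∀ k, Module.Flat T (T ⊗[P] Piece J M k) :=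
  exists_uniform_bound_family (fun k => Piece J M k) (genProj_piece J M)

end

end Groth.Agent.Lib.Helper16.GrFlat
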