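import Mathlib
import Groth.Agent.Lib.Helper16.GrFlat.PieceGenProj
import Groth.Agent.Lib.Helper16.GrFlat.PieceBC
import Groth.Agent.Lib.Helper16.GrFlat.FlatStage
import Groth.Agent.Lib.Helper16.GrFlat.NormalFlatOpen
import Groth.Agent.Lib.Helper89.GrFlat

/-!
# Openness of the normal flatness locus when `gr_J(M)` is flat over the base (helper16)

EGA IV 11.3.x-type statement: `A` any ring, `B` a finitely presented `A`-algebra, `J` a finitely
generated ideal, `M` a finitely presented `B`-module with `gr_J(M)` flat over `A`.  Then the locus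
of `q ∈ V(J)` at which `M` is normally flat along `V(J)` is open in `V(J)`.
-/

set_option autoImplicit false
universe u
open TensorProduct

namespace Groth.Agent.Lib.Helper16.GrFlat

open Groth.Agent.Lib.Helper47.GrStrat Groth.Agent.Lib.Helper71.FlatColim
  Groth.Agent.H76.FlatKernel Groth.Agent.H76.FlatDescentLocal Groth.Agent.H76.FlatBaseChange

section Surj

variable {P₀ B : Type u} [CommRing P₀] [CommRing B] [Algebra P₀ B]
  (hs : Function.Surjective (algebraMap P₀ B))
  (N : Type u) [AddCommGroup N] [Module B N] [Module P₀ N] [IsScalarTower P₀ B N]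

include hs in
/-- For a quotient `B` of `P₀` and a `B`-module `N`, `B ⊗[P₀] N = N`. -/
theorem nonempty_tensorEquiv_of_surjective : Nonempty (B ⊗[P₀] N ≃ₗ[B] N) := by
  let μ : B ⊗[P₀] N →ₗ[B] N := (LinearMap.id : N →ₗ[P₀] N).liftBaseChange B
  have hμ : ∀ x : B ⊗[P₀] N, x = (1 : B) ⊗ₜ[P₀] μ x := by
    intro x
    induction x using TensorProduct.induction_on with
    | zero => simp
    | tmul b n =>
      obtain ⟨p, rfl⟩ := hs b
      have h1 : μ (algebraMap P₀ B p ⊗ₜ[P₀] n) = p • n := by
        simp only [μ, LinearMap.liftBaseChange_tmul, LinearMap.id_coe, id_eq, algebraMap_smul]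
      rw [h1, ← TensorProduct.smul_tmul, Algebra.smul_def, mul_one]
    | add x y hx hy =>
      rw [map_add, TensorProduct.tmul_add, ← hx, ← hy]
  refine ⟨LinearEquiv.ofBijective μ ⟨?_, ?_⟩⟩
  · rw [injective_iff_map_eq_zero]
    intro x hx
    rw [hμ x, hx, TensorProduct.tmul_zero]
  · intro n
    exact ⟨1 ⊗ₜ n, by simp [μ]⟩

end Surj

section RingChange

variable {P₀ B : Type u} [CommRing P₀] [CommRing B] [Algebra P₀ B]
  (M : Type u) [AddCommGroup M] [Module B M] [Module P₀ M] [IsScalarTower P₀ B M]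
  (J₀ : Ideal P₀)

/-- The pieces of `M` over `P₀` and over the `P₀`-algebra `B` agree. -/
theorem nonempty_piece_restrictScalars (k : ℕ) :
    Nonempty (Piece J₀ M k ≃ₗ[P₀] Piece (J₀.map (algebraMap P₀ B)) M k) := by
  have hsub : ((J₀.map (algebraMap P₀ B)) ^ k • (⊤ : Submodule B M)).restrictScalars P₀ =
      J₀ ^ k • (⊤ : Submodule P₀ M) := by
    rw [← Ideal.map_pow, Ideal.smul_restrictScalars, Submodule.restrictScalars_top]
  let φ : ↥(J₀ ^ k • (⊤ : Submodule P₀ M)) ≃ₗ[P₀]
      ↥((J₀.map (algebraMap P₀ B)) ^ k • (⊤ : Submodule B M)) :=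
    LinearEquiv.ofEq _ _ hsub.symm ≪≫ₗ
      (Submodule.restrictScalarsEquiv P₀ B M
        ((J₀.map (algebraMap P₀ B)) ^ k • (⊤ : Submodule B M))).restrictScalars P₀
  have hmap : (J₀ • (⊤ : Submodule P₀ ↥(J₀ ^ k • (⊤ : Submodule P₀ M)))).map φ.toLinearMap =
      ((J₀.map (algebraMap P₀ B)) • (⊤ : Submodule B
        ↥((J₀.map (algebraMap P₀ B)) ^ k • (⊤ : Submodule B M)))).restrictScalars P₀ := by
    rw [Ideal.smul_restrictScalars, Submodule.restrictScalars_top, Submodule.map_smul'',
      Submodule.map_top, LinearEquiv.range]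
  exact ⟨Submodule.Quotient.equiv _ _ φ hmap ≪≫ₗ Submodule.Quotient.restrictScalarsEquiv P₀ _⟩

end RingChange

section Model

attribute [local instance] MvPolynomial.algebraMvPolynomial

variable {A₂ A : Type u} [CommRing A₂] [CommRing A] [Algebra A₂ A] {n a b r : ℕ}
  (c₂ : Fin a → Fin b → MvPolynomial (Fin n) A₂) (h₂ : Fin r → MvPolynomial (Fin n) A₂)

/-- Base change of the pieces of a matrix model along a change of coefficients, when the
truncation is flat over the small coefficient ring. -/
theorem nonempty_pieceModel_baseChange (k : ℕ)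
    [Module.Flat A₂ (Trunc (Ideal.span (Set.range h₂)) (Coker c₂) k)] :
    Nonempty (MvPolynomial (Fin n) A ⊗[MvPolynomial (Fin n) A₂]
        Piece (Ideal.span (Set.range h₂)) (Coker c₂) k ≃ₗ[MvPolynomial (Fin n) A]
      Piece (Ideal.span (Set.range (vmap (algebraMap A₂ A) h₂)))
        (Coker (cmap (algebraMap A₂ A) c₂)) k) := by
  have hJ : (Ideal.span (Set.range h₂)).map
      (algebraMap (MvPolynomial (Fin n) A₂) (MvPolynomial (Fin n) A)) =
      Ideal.span (Set.range (vmap (algebraMap A₂ A) h₂)) := by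
    rw [Ideal.map_span, ← Set.range_comp]
    rfl
  obtain ⟨i1⟩ := nonempty_pieceBaseChange_of_flat A₂ A (A := MvPolynomial (Fin n) A₂)
    (B := MvPolynomial (Fin n) A) (M := Coker c₂) (Ideal.span (Set.range h₂)) k
  have i2 := pieceCongr ((Ideal.span (Set.range h₂)).map
      (algebraMap (MvPolynomial (Fin n) A₂) (MvPolynomial (Fin n) A)))
    (isBaseChange_cokerMap (P₂ := MvPolynomial (Fin n) A) c₂).equiv k
  rw [hJ] at i1 i2
  exact ⟨i1 ≪≫ₗ i2⟩

end Model

section Main

attribute [local instance] MvPolynomial.algebraMvPolynomial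

variable {A B : Type u} [CommRing A] [CommRing B] [Algebra A B]

/-- The graded pieces in the `comap` form agree with the `J • ⊤` form. -/
theorem comap_subtype_pow_succ_smul' (J : Ideal B) (M : Type u) [AddCommGroup M] [Module B M]
    (k : ℕ) :
    Submodule.comap (J ^ k • (⊤ : Submodule B M)).subtype (J ^ (k + 1) • ⊤) =
      J • (⊤ : Submodule B ↥(J ^ k • (⊤ : Submodule B M))) := by
  apply Submodule.map_injective_of_injective (J ^ k • (⊤ : Submodule B M)).injective_subtype
  rw [Submodule.map_comap_subtype, Submodule.map_smul'', Submodule.map_subtype_top,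
    ← Submodule.mul_smul, ← pow_succ']
  exact inf_of_le_right (Submodule.smul_mono_left (Ideal.pow_le_pow_right (Nat.le_succ k)))

/-- **Openness of the normal flatness locus** when `gr_J(M)` is flat over the base. -/
theorem isOpen_normallyFlat_locus [Algebra.FinitePresentation A B] (J : Ideal B) (hJ : J.FG)
    (M : Type u) [AddCommGroup M] [Module B M] [Module A M] [IsScalarTower A B M]
    [Module.FinitePresentation B M]
    (hgrM : ∀ k : ℕ, Module.Flat A
      (↥(J ^ k • (⊤ : Submodule B M)) ⧸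
        Submodule.comap (J ^ k • (⊤ : Submodule B M)).subtype (J ^ (k + 1) • ⊤))) :
    IsOpen {q : PrimeSpectrum B | J ≤ q.asIdeal → ∀ k : ℕ,
      Module.Flat (B ⧸ J) ((B ⧸ J) ⊗[B] LocalizedModule q.asIdeal.primeCompl
        (↥(J ^ k • (⊤ : Submodule B M)) ⧸
          Submodule.comap (J ^ k • (⊤ : Submodule B M)).subtype (J ^ (k + 1) • ⊤)))} := by
  -- pieces and truncations are flat over `A`
  have hpiece : ∀ k, Module.Flat A (Piece J M k) := fun k => by
    haveI := hgrM k
    exact Module.Flat.of_linearEquiv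
      ((Submodule.quotEquivOfEq _ _ (comap_subtype_pow_succ_smul' J M k)).restrictScalars A).symm
  have hquot : ∀ k, Module.Flat A (M ⧸ (J ^ k • (⊤ : Submodule B M))) := fun k =>
    Groth.Agent.Lib.Helper89.flat_quotient_pow_of_gr_flat A B M J hpiece k
  -- presentation
  obtain ⟨n, π, hπ, hker⟩ := Algebra.FinitePresentation.out (R := A) (A := B)
  letI algPB : Algebra (MvPolynomial (Fin n) A) B := π.toRingHom.toAlgebra
  have halg : ∀ p : MvPolynomial (Fin n) A, algebraMap (MvPolynomial (Fin n) A) B p = π p :=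
    fun p => rfl
  have hπ' : Function.Surjective (algebraMap (MvPolynomial (Fin n) A) B) := hπ
  haveI : IsScalarTower A (MvPolynomial (Fin n) A) B :=
    IsScalarTower.of_algebraMap_eq fun r => (π.commutes r).symm
  letI modPM : Module (MvPolynomial (Fin n) A) M := Module.compHom M π.toRingHom
  have hsm : ∀ (p : MvPolynomial (Fin n) A) (m : M), p • m = π p • m := fun p m => rfl
  haveI : IsScalarTower (MvPolynomial (Fin n) A) B M := ⟨fun p x m => by
    rw [Algebra.smul_def, halg, hsm, mul_smul]⟩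
  haveI : IsScalarTower A (MvPolynomial (Fin n) A) M := ⟨fun r p m => by
    rw [hsm, hsm, map_smul, smul_assoc]⟩
  haveI : Module.FinitePresentation (MvPolynomial (Fin n) A) B := by
    refine Module.finitePresentation_of_surjective
      (Algebra.linearMap (MvPolynomial (Fin n) A) B) hπ ?_
    exact hker
  haveI : Module.FinitePresentation (MvPolynomial (Fin n) A) M :=
    Module.FinitePresentation.trans (MvPolynomial (Fin n) A) M B
  obtain ⟨b, K, e, hK⟩ := Module.FinitePresentation.exists_fin (MvPolynomial (Fin n) A) M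
  obtain ⟨a, c₀, rfl⟩ := Submodule.fg_iff_exists_fin_generating_family.mp hK
  obtain ⟨r, j₀, hj₀⟩ := Submodule.fg_iff_exists_fin_generating_family.mp hJ
  have hlift : ∀ i, ∃ p : MvPolynomial (Fin n) A, π p = j₀ i := fun i => hπ (j₀ i)
  choose h₀ hh₀ using hlift
  have hJmap : (Ideal.span (Set.range h₀)).map (algebraMap (MvPolynomial (Fin n) A) B) = J := by
    rw [Ideal.map_span, ← Set.range_comp, ← hj₀]
    congr 2
    funext i
    exact hh₀ i
  -- the truncations of the matrix model are flat over `A`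
  have hfl₀ : ∀ k, Module.Flat A (Trunc (Ideal.span (Set.range h₀)) (Coker c₀) k) := by
    intro k
    have hsub : (J ^ k • (⊤ : Submodule B M)).restrictScalars (MvPolynomial (Fin n) A) =
        (Ideal.span (Set.range h₀)) ^ k • (⊤ : Submodule (MvPolynomial (Fin n) A) M) := by
      rw [← hJmap, ← Ideal.map_pow, Ideal.smul_restrictScalars, Submodule.restrictScalars_top]
    have hsub' : (J ^ k • (⊤ : Submodule B M)).restrictScalars A =
        ((Ideal.span (Set.range h₀)) ^ k •
          (⊤ : Submodule (MvPolynomial (Fin n) A) M)).restrictScalars A := by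
      rw [← hsub]
      rfl
    have e1 : (M ⧸ (J ^ k • (⊤ : Submodule B M))) ≃ₗ[A]
        Trunc (Ideal.span (Set.range h₀)) M k :=
      (Submodule.Quotient.restrictScalarsEquiv A _).symm ≪≫ₗ
        Submodule.quotEquivOfEq _ _ hsub' ≪≫ₗ Submodule.Quotient.restrictScalarsEquiv A _
    haveI := hquot k
    exact Module.Flat.of_linearEquiv
      (e1 ≪≫ₗ (truncCongr (Ideal.span (Set.range h₀)) e k).restrictScalars A).symm
  -- the Noetherian model
  obtain ⟨A₂, _, _, _, c₂, h₂, hcc, hhh, hfl₂⟩ := exists_flat_model c₀ h₀ hfl₀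
  letI algP₂B : Algebra (MvPolynomial (Fin n) A₂) B :=
    ((algebraMap (MvPolynomial (Fin n) A) B).comp
      (algebraMap (MvPolynomial (Fin n) A₂) (MvPolynomial (Fin n) A))).toAlgebra
  haveI : IsScalarTower (MvPolynomial (Fin n) A₂) (MvPolynomial (Fin n) A) B :=
    IsScalarTower.of_algebraMap_eq (fun _ => rfl)
  refine isOpen_normallyFlat_of_model J
    (fun k => ↥(J ^ k • (⊤ : Submodule B M)) ⧸
      Submodule.comap (J ^ k • (⊤ : Submodule B M)).subtype (J ^ (k + 1) • ⊤))
    (P₂ := MvPolynomial (Fin n) A₂)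
    (fun k => Piece (Ideal.span (Set.range h₂)) (Coker c₂) k)
    (exists_uniform_bound_piece (Ideal.span (Set.range h₂)) (Coker c₂)) (fun k => ?_)
  haveI := hfl₂ k
  obtain ⟨i1⟩ := nonempty_pieceModel_baseChange (A := A) c₂ h₂ k
  rw [hcc, hhh] at i1
  have i2 : Piece (Ideal.span (Set.range h₀)) (Coker c₀) k ≃ₗ[MvPolynomial (Fin n) A]
      Piece (Ideal.span (Set.range h₀)) M k := pieceCongr (Ideal.span (Set.range h₀)) e.symm k
  obtain ⟨i3⟩ := nonempty_piece_restrictScalars (B := B) M (Ideal.span (Set.range h₀)) k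
  rw [hJmap] at i3
  obtain ⟨i4⟩ := nonempty_tensorEquiv_of_surjective hπ' (Piece J M k)
  exact ⟨(AlgebraTensorModule.cancelBaseChange (MvPolynomial (Fin n) A₂) (MvPolynomial (Fin n) A)
      B B (Piece (Ideal.span (Set.range h₂)) (Coker c₂) k)).symm ≪≫ₗ
    AlgebraTensorModule.congr (LinearEquiv.refl B B) (i1 ≪≫ₗ i2 ≪≫ₗ i3) ≪≫ₗ i4 ≪≫ₗ
    (Submodule.quotEquivOfEq _ _ (comap_subtype_pow_succ_smul' J M k)).symm⟩

end Main

end Groth.Agent.Lib.Helper16.GrFlat
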